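import Cfsg.Agent.H595.Solv
import Cfsg.Agent.Blocks.Over
import Cfsg.Agent.Blocks.OrbitSum
import Cfsg.Agent.S0887
import Cfsg.Agent.S0174

/-!
# Going up for a coprime action of a solvable group
-/

set_option autoImplicit false
set_option linter.unusedSectionVars false
set_option linter.style.haveILetI false

namespace Cfsg.Agent.H595.GoUp

open Cfsg
open scoped ComplexConjugate
open Cfsg.Agent.Characters.Core
open Cfsg.Agent.H593.GlaubermanP (Setup Inv actIrr)
open Cfsg.Agent.H595.Fix Cfsg.Agent.H595.Solv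

universe u v w

/-- The multiplicity divides the index. -/
theorem mult_dvd_index_sub {G : Type*} [Group G] [Fintype G] (N : Subgroup G) [hN : N.Normal]
    [Fintype N] (χ : IrrCharacter G) (θ : IrrCharacter N) {e : ℕ}
    (he : classInner (fun n : N => (χ : G → ℂ) n) (θ : N → ℂ) = e) (he0 : e ≠ 0) :
    e ∣ N.index := by
  have hcon : classInner (fun n : N => (χ : G → ℂ) n) (θ : N → ℂ) ≠ 0 := by
    rw [he]; exact_mod_cast he0
  obtain ⟨c, hc0, hc⟩ := isIrr_apply_one χ.2
  obtain ⟨d, hd0, hd⟩ := isIrr_apply_one θ.2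
  obtain ⟨h1, h2⟩ := Cfsg.Agent.S0887.result N (χ : G → ℂ) χ.2 (θ : N → ℂ) θ.2 hcon c d hc hd
  have h3 := Cfsg.Agent.S0174.result N hN (χ : G → ℂ) χ.2 (θ : N → ℂ) θ.2 hcon
  have h4 := congrFun h3 1
  rw [he] at h4
  have hfin : {ψ : N → ℂ | ∃ g : G, ψ = fun n : N => (θ : N → ℂ)
      ⟨g * n * g⁻¹, hN.conj_mem n n.2 g⟩}.Finite :=
    Set.Finite.subset (Set.finite_range fun g : G => fun n : N => (θ : N → ℂ)
      ⟨g * n * g⁻¹, hN.conj_mem n n.2 g⟩) (by
        rintro ψ ⟨g, rfl⟩
        exact ⟨g, rfl⟩)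
  rw [Pi.smul_apply, finsum_mem_eq_finite_toFinset_sum _ hfin, Finset.sum_apply] at h4
  have h5 : ∀ ψ ∈ hfin.toFinset, ψ 1 = (d : ℂ) := by
    intro ψ hψ
    rw [Set.Finite.mem_toFinset] at hψ
    obtain ⟨g, rfl⟩ := hψ
    rw [← hd]
    have h5 : (⟨g * ((1 : N) : G) * g⁻¹, hN.conj_mem _ (1 : N).2 g⟩ : N) = 1 :=
      Subtype.ext (by
        show g * ((1 : N) : G) * g⁻¹ = ((1 : N) : G)
        rw [OneMemClass.coe_one, mul_one, mul_inv_cancel])
    exact congrArg (θ : N → ℂ) h5
  rw [Finset.sum_congr rfl h5, Finset.sum_const] at h4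
  simp only [smul_eq_mul, nsmul_eq_mul] at h4
  have h6 : (χ : G → ℂ) ((1 : N) : G) = c := hc
  rw [h6] at h4
  have h7 : c = e * (hfin.toFinset.card * d) := by exact_mod_cast h4
  have h8 : c / d = e * hfin.toFinset.card := by
    rw [h7, ← mul_assoc, Nat.mul_div_cancel _ hd0]
  rw [h8] at h2
  exact (dvd_mul_right _ _).trans h2

/-- The same for an injective homomorphism with normal range. -/
theorem mult_dvd_card {G : Type*} [Group G] [Fintype G] {N : Type*} [Group N] [Fintype N]
    (j : N →* G) (hj : Function.Injective j) (hn : j.range.Normal) (χ : IrrCharacter G)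
    (θ : IrrCharacter N) {e : ℕ} (he : classInner ((χ : G → ℂ) ∘ j) (θ : N → ℂ) = e)
    (he0 : e ≠ 0) : e ∣ Nat.card G := by
  have := Fintype.ofFinite j.range
  let f : N ≃* j.range := MonoidHom.ofInjective hj
  have h1 : classInner (fun n : j.range => (χ : G → ℂ) n) (twist f.symm θ : j.range → ℂ) = e := by
    rw [← he, ← classInner_comp_equiv f]
    congr 1
    funext n
    show (θ : N → ℂ) (f.symm (f n)) = (θ : N → ℂ) n
    rw [f.symm_apply_apply]
  exact (mult_dvd_index_sub j.range χ _ h1 he0).trans (Subgroup.index_dvd_card _)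

/-- Over each irreducible character of `N` there is one of `G`. -/
theorem exists_over {G : Type*} [Group G] [Fintype G] {N : Type*} [Group N] [Fintype N]
    (j : N →* G) (hj : Function.Injective j) (θ : IrrCharacter N) :
    ∃ χ : IrrCharacter G, classInner ((χ : G → ℂ) ∘ j) (θ : N → ℂ) ≠ 0 := by
  have := Fintype.ofFinite j.range
  let f : N ≃* j.range := MonoidHom.ofInjective hj
  obtain ⟨χ, hχ⟩ := Cfsg.Agent.Blocks.Over.exists_over j.range (twist f.symm θ)
  refine ⟨χ, fun h => hχ ?_⟩
  rw [← h, ← classInner_comp_equiv f]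
  congr 1
  funext n
  show (θ : N → ℂ) (f.symm (f n)) = (θ : N → ℂ) n
  rw [f.symm_apply_apply]

/-- Going up one `p`-step. -/
theorem step {G : Type*} [Group G] [Fintype G] {N : Type*} [Group N] [Fintype N]
    {T : Type*} [Group T] [MulDistribMulAction T G] [MulDistribMulAction T N]
    {p : ℕ} [Fact p.Prime] {D : Type*} [Group D] [Fintype D] {E : Type*} [Group E] [Fintype E]
    {ι : D →* G} {κ : E →* N} (hG : Setup T ι p) (hN : Setup T κ p) (j : N →* G)
    (hj : ∀ (t : T) (n : N), j (t • n) = t • j n) (i : E →* D) (hi : Function.Injective i)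
    (hin : i.range.Normal) (hcomm : ∀ x : E, ι (i x) = j (κ x))
    {χ : IrrCharacter G} (hχ : Inv T (χ : G → ℂ)) {θ : IrrCharacter N} (hθ : Inv T (θ : N → ℂ))
    {χ' : IrrCharacter D} {θ' : IrrCharacter E} (hc : Cor ι p χ χ') (hc' : Cor κ p θ θ')
    (hover : classInner ((χ' : D → ℂ) ∘ i) (θ' : E → ℂ) ≠ 0) :
    classInner ((χ : G → ℂ) ∘ j) (θ : N → ℂ) ≠ 0 := by
  classical
  intro h0
  have hp : p.Prime := Fact.out
  have : Finite (IrrCharacter D) := finite_irr
  have := Fintype.ofFinite (IrrCharacter D)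
  have : Finite (IrrCharacter N) := finite_irr
  have := Fintype.ofFinite (IrrCharacter N)
  obtain ⟨e, he⟩ := classInner_isNat (isCharacter_comp i (isIrr_isCharacter χ'.2))
    (isIrr_isCharacter θ'.2)
  have he0 : e ≠ 0 := by
    rintro rfl
    exact hover (by rw [he, Nat.cast_zero])
  have hpe : ¬ p ∣ e := fun hd =>
    hG.ndvd' (hd.trans (mult_dvd_card i hi hin χ' θ' he he0))
  -- first computation, through `D`
  obtain ⟨m, hm⟩ := exists_nat_comb (isCharacter_comp ι (isIrr_isCharacter χ.2))
  have hmm : ∀ η : IrrCharacter D, classInner ((χ : G → ℂ) ∘ ι) (η : D → ℂ) = m η := fun η => by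
    rw [hm, classInner_sum_nsmul_irr]
  choose a ha using fun η : IrrCharacter D =>
    classInner_isNat (isCharacter_comp i (isIrr_isCharacter η.2)) (isIrr_isCharacter θ'.2)
  have h1 : classInner (((χ : G → ℂ) ∘ ι) ∘ i) (θ' : E → ℂ) = ((∑ η, m η * a η : ℕ) : ℂ) := by
    have h2 : ((χ : G → ℂ) ∘ ι) ∘ i = ∑ η : IrrCharacter D, (m η : ℂ) • ((η : D → ℂ) ∘ i) := by
      rw [hm]
      funext x
      simp only [Function.comp_apply, Finset.sum_apply, Pi.smul_apply, smul_eq_mul]
      exact Finset.sum_congr rfl fun _ _ => nsmul_eq_mul _ _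
    rw [h2, classInner_sum_left, Nat.cast_sum]
    refine Finset.sum_congr rfl fun η _ => ?_
    rw [classInner_smul_left, ha]
    push_cast
    ring
  have h3 : ¬ p ∣ ∑ η, m η * a η := by
    intro hd
    have h4 : p ∣ ∑ η ∈ Finset.univ.erase χ', m η * a η := by
      refine Finset.dvd_sum fun η hη => Dvd.dvd.mul_right ?_ _
      by_contra h5
      exact (Finset.mem_erase.1 hη).1 (cor_unique_beta hG hχ ⟨m η, hmm η, h5⟩ hc)
    rw [← Finset.add_sum_erase _ _ (Finset.mem_univ χ')] at hd
    have h6 := (Nat.dvd_add_iff_left h4).2 hd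
    rcases (Nat.Prime.dvd_mul hp).1 h6 with h7 | h7
    · obtain ⟨m', hm', hpm'⟩ := hc
      rw [hmm] at hm'
      have : m χ' = m' := by exact_mod_cast hm'
      exact hpm' (this ▸ h7)
    · have h8 : a χ' = e := by
        have := ha χ'
        rw [he] at this
        exact_mod_cast this.symm
      exact hpe (h8 ▸ h7)
  -- second computation, through `N`
  obtain ⟨k, hk⟩ := exists_nat_comb (isCharacter_comp j (isIrr_isCharacter χ.2))
  have hkk : ∀ φ : IrrCharacter N, classInner ((χ : G → ℂ) ∘ j) (φ : N → ℂ) = k φ := fun φ => by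
    rw [hk, classInner_sum_nsmul_irr]
  choose b hb using fun φ : IrrCharacter N =>
    classInner_isNat (isCharacter_comp κ (isIrr_isCharacter φ.2)) (isIrr_isCharacter θ'.2)
  have h9 : classInner (((χ : G → ℂ) ∘ j) ∘ κ) (θ' : E → ℂ) = ((∑ φ, k φ * b φ : ℕ) : ℂ) := by
    have h2 : ((χ : G → ℂ) ∘ j) ∘ κ = ∑ φ : IrrCharacter N, (k φ : ℂ) • ((φ : N → ℂ) ∘ κ) := by
      rw [hk]
      funext x
      simp only [Function.comp_apply, Finset.sum_apply, Pi.smul_apply, smul_eq_mul]
      exact Finset.sum_congr rfl fun _ _ => nsmul_eq_mul _ _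
    rw [h2, classInner_sum_left, Nat.cast_sum]
    refine Finset.sum_congr rfl fun φ _ => ?_
    rw [classInner_smul_left, hb]
    push_cast
    ring
  have h10 : ((χ : G → ℂ) ∘ ι) ∘ i = ((χ : G → ℂ) ∘ j) ∘ κ := by
    funext x
    show (χ : G → ℂ) (ι (i x)) = (χ : G → ℂ) (j (κ x))
    rw [hcomm]
  rw [h10, h9] at h1
  have h11 : ∑ φ, k φ * b φ = ∑ η, m η * a η := by exact_mod_cast h1
  apply h3
  rw [← h11]
  -- the sum over `Irr N` modulo `p`
  let _ : MulAction T (IrrCharacter N) := actIrr T
  have hact : ∀ (s : T) (φ : IrrCharacter N) (g : N),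
      ((s • φ : IrrCharacter N) : N → ℂ) g = (φ : N → ℂ) (s⁻¹ • g) := fun _ _ _ => rfl
  have hkinv : ∀ (t : T) (φ : IrrCharacter N), k (t • φ) = k φ := by
    intro t φ
    have h12 := hkk (t • φ)
    have h13 : ((t • φ : IrrCharacter N) : N → ℂ) = (φ : N → ℂ) ∘ (aut T N t⁻¹) := rfl
    have h14 : (χ : G → ℂ) ∘ j = ((χ : G → ℂ) ∘ j) ∘ (aut T N t⁻¹) := by
      funext n
      show (χ : G → ℂ) (j n) = (χ : G → ℂ) (j (t⁻¹ • n))
      rw [hj, hχ]
    rw [h13, h14, classInner_comp_equiv, hkk] at h12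
    exact_mod_cast h12.symm
  have hbinv : ∀ (t : T) (φ : IrrCharacter N), b (t • φ) = b φ := by
    intro t φ
    have h12 := hb (t • φ)
    have h13 : ((t • φ : IrrCharacter N) : N → ℂ) ∘ κ = (φ : N → ℂ) ∘ κ := by
      funext x
      show (φ : N → ℂ) (t⁻¹ • κ x) = (φ : N → ℂ) (κ x)
      rw [hN.smul]
    rw [h13, hb] at h12
    exact_mod_cast h12.symm
  obtain ⟨c, hc2⟩ := Cfsg.Agent.Blocks.OrbitSum.sum_eq_sum_fixed_add_smul (p := p) hG.pgroup
    (fun φ : IrrCharacter N => ((k φ * b φ : ℕ) : ℤ)) (fun t φ => by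
      show ((k (t • φ) * b (t • φ) : ℕ) : ℤ) = _
      rw [hkinv, hbinv])
  have h15 : (p : ℤ) ∣ ∑ φ : IrrCharacter N, ((k φ * b φ : ℕ) : ℤ) := by
    rw [hc2]
    refine dvd_add (Finset.dvd_sum fun φ hφ => ?_) ⟨c, by rw [nsmul_eq_mul]⟩
    have hφ2 := (Finset.mem_filter.1 hφ).2
    have hφi : Inv T (φ : N → ℂ) := by
      intro t n
      have h16 := hact t φ (t • n)
      rw [hφ2 t, inv_smul_smul] at h16
      exact h16
    by_cases h17 : φ = θ
    · have h18 : k φ = 0 := by
        have := hkk φ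
        rw [h17, h0] at this
        rw [h17]
        exact_mod_cast this.symm
      rw [h18, zero_mul, Nat.cast_zero]
      exact dvd_zero _
    · have h18 : p ∣ b φ := by
        by_contra h19
        exact h17 (cor_unique_chi hN hφi hθ ⟨b φ, hb φ, h19⟩ hc')
      exact_mod_cast Dvd.dvd.mul_left h18 _
  exact_mod_cast h15

/-- **Going up**, all solvable operator groups. -/
theorem going_up_aux (n : ℕ) : ∀ (S : Type v) [Group S] [Finite S] (G : Type u) [Group G]
    [Fintype G] (N : Type w) [Group N] [Fintype N]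
    [MulDistribMulAction S G] [MulDistribMulAction S N], Group.IsSolvable S →
    (Nat.card G).Coprime (Nat.card S) → Nat.card S = n → ∀ (j : N →* G),
    Function.Injective j → j.range.Normal → (∀ (s : S) (n : N), j (s • n) = s • j n) →
    ∀ θ : IrrCharacter N, Inv S (θ : N → ℂ) →
    ∃ χ : IrrCharacter G, Inv S (χ : G → ℂ) ∧ classInner ((χ : G → ℂ) ∘ j) (θ : N → ℂ) ≠ 0 := by
  induction n using Nat.strong_induction_on with
  | _ n ih =>
    intro S _ _ G _ _ N _ _ _ _ hsol hcop hn j hj hjn heq θ hθ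
    rcases subsingleton_or_nontrivial S with hS | hS
    · obtain ⟨χ, hχ⟩ := exists_over j hj θ
      refine ⟨χ, fun s g => ?_, hχ⟩
      rw [Subsingleton.elim s 1, one_smul]
    · obtain ⟨p, T, hp, hTn, hTp, -, hT1⟩ :=
        Cfsg.Agent.Lib.SolvableNormalP.exists_normal_pSubgroup S
      have : Fact p.Prime := ⟨hp⟩
      have hpS : p ∣ Nat.card S := by
        obtain ⟨k, hk⟩ := IsPGroup.iff_card.1 hTp
        have hk0 : k ≠ 0 := by
          rintro rfl
          rw [pow_zero] at hk
          exact hT1 (Subgroup.card_eq_one.1 hk)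
        have h2 : p ∣ Nat.card T := by
          rw [hk]
          exact dvd_pow_self p hk0
        exact h2.trans (Subgroup.card_subgroup_dvd_card T)
      have hG : ¬ p ∣ Nat.card G := fun hd => by
        have h3 := Nat.dvd_gcd hd hpS
        rw [hcop] at h3
        exact hp.one_lt.ne' (Nat.dvd_one.1 h3)
      have hN : ¬ p ∣ Nat.card N := fun hd => hG (hd.trans (Subgroup.card_dvd_of_injective j hj))
      have hsG := setup_fx (p := p) (G := G) T hTp hG
      have hsN := setup_fx (p := p) (G := N) T hTp hN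
      have := Fintype.ofFinite (fx T G)
      have := Fintype.ofFinite (fx T N)
      letI := quotAct T G
      letI := quotAct T N
      have hlt : Nat.card (S ⧸ T) < n := by
        rw [← hn, ← Subgroup.index_eq_card]
        have h1 := Subgroup.card_mul_index T
        have h2 : 1 < Nat.card T := (Subgroup.one_lt_card_iff_ne_bot T).2 hT1
        have h3 : 0 < T.index := Nat.pos_of_ne_zero T.index_ne_zero_of_finite
        nlinarith
      have hmem : ∀ x : fx T N, j x ∈ fx T G := fun x t => by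
        have h1 : t • j (x : N) = j ((t : S) • (x : N)) := (heq (t : S) (x : N)).symm
        rw [h1]
        congr 1
        exact x.2 t
      let i : fx T N →* fx T G := (j.comp (fx T N).subtype).codRestrict (fx T G) hmem
      have hi_coe : ∀ x : fx T N, ((i x : fx T G) : G) = j (x : N) := fun _ => rfl
      have hi : Function.Injective i := fun x y h =>
        Subtype.ext (hj (by
          have := congrArg (fun z : fx T G => (z : G)) h
          exact this))
      have hin : i.range.Normal := by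
        constructor
        rintro _ ⟨x, rfl⟩ g
        have h1 : (g : G) * j (x : N) * (g : G)⁻¹ ∈ j.range :=
          hjn.conj_mem _ ⟨(x : N), rfl⟩ (g : G)
        obtain ⟨y, hy⟩ := h1
        have hyT : y ∈ fx T N := by
          intro t
          apply hj
          have h2 : j (t • y) = (t : S) • j y := heq (t : S) y
          rw [h2, hy]
          have h3 : ((t : S) • ((g : G) * j (x : N) * (g : G)⁻¹)) =
              (g : G) * j (x : N) * (g : G)⁻¹ := by
            rw [smul_mul', smul_mul', smul_inv']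
            have h4 : (t : S) • (g : G) = g := g.2 t
            have h5 : (t : S) • j (x : N) = j (x : N) := hmem x t
            rw [h4, h5]
          exact h3
        exact ⟨⟨y, hyT⟩, Subtype.ext hy⟩
      obtain ⟨θ', hθ'⟩ := exists_cor_beta hsN θ
      have hθ'i := inv_beta hTp hN hθ hθ'
      obtain ⟨χ', hχ'i, hχ'⟩ := ih (Nat.card (S ⧸ T)) hlt (S ⧸ T) (fx T G) (fx T N)
        inferInstance
        (Nat.Coprime.coprime_dvd_left (Subgroup.card_subgroup_dvd_card _)
          (Nat.Coprime.coprime_dvd_right (Subgroup.card_quotient_dvd_card T) hcop))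
        rfl i hi hin (by
          intro q x
          induction q using QuotientGroup.induction_on with
          | H s => exact Subtype.ext (heq s (x : N))) θ' hθ'i
      obtain ⟨χ, hχT, hc⟩ := exists_cor_chi hsG χ'
      refine ⟨χ, inv_chi hTp hG hχT hχ'i hc, ?_⟩
      exact step hsG hsN j (fun t n => heq (t : S) n) i hi hin (fun x => rfl) hχT
        (inv_sub T hθ) hc hθ' hχ'

/-- **Going up**: `S` solvable acts on `G` and its normal subgroup `N`, coprimely; over an
`S`-invariant irreducible character of `N` there is an `S`-invariant one of `G`. -/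
theorem going_up {S : Type v} [Group S] [Finite S] {G : Type u} [Group G] [Fintype G]
    {N : Type w} [Group N] [Fintype N] [MulDistribMulAction S G] [MulDistribMulAction S N]
    (hsol : Group.IsSolvable S) (hcop : (Nat.card G).Coprime (Nat.card S)) (j : N →* G)
    (hj : Function.Injective j) (hjn : j.range.Normal)
    (heq : ∀ (s : S) (n : N), j (s • n) = s • j n) (θ : IrrCharacter N)
    (hθ : Inv S (θ : N → ℂ)) :
    ∃ χ : IrrCharacter G, Inv S (χ : G → ℂ) ∧ classInner ((χ : G → ℂ) ∘ j) (θ : N → ℂ) ≠ 0 :=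
  going_up_aux (Nat.card S) S G N hsol hcop rfl j hj hjn heq θ hθ

end Cfsg.Agent.H595.GoUp
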