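import Cfsg.Agent.H595.Fix
import Cfsg.Agent.H593.GlaubermanP2
import Cfsg.Agent.Lib.SolvableNormalP

/-!
# Coprime action of a solvable group: counting invariant characters

`S` solvable acts on `G` coprimely, `ι : D →* G` embeds `D` onto the fixed points.

* `Cor ι p χ β` : `p` does not divide the multiplicity of `β` in `χ ∘ ι`;
* `card_inv` : the number of `S`-invariant irreducible characters of `G` is the number of
  irreducible characters of `D`.
-/

set_option autoImplicit false
set_option linter.unusedSectionVars false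

namespace Cfsg.Agent.H595.Solv

open Cfsg
open scoped ComplexConjugate
open Cfsg.Agent.Characters.Core
open Cfsg.Agent.H593.GlaubermanP (Setup Inv)
open Cfsg.Agent.H595.Fix

universe u v w

section Cor

variable {G : Type*} [Group G] {D : Type*} [Group D] [Fintype D] (ι : D →* G)

/-- `p` does not divide the multiplicity of `β` in the restriction of `χ`. -/
def Cor (p : ℕ) (χ : IrrCharacter G) (β : IrrCharacter D) : Prop :=
  ∃ m : ℕ, classInner ((χ : G → ℂ) ∘ ι) (β : D → ℂ) = m ∧ ¬ p ∣ m

variable {ι} [Fintype G] {S : Type*} [Group S] [MulDistribMulAction S G] {p : ℕ} [Fact p.Prime]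

theorem cor_iff (h : Setup S ι p) {M : Ideal AlgInt} (hM : IsPModular p M) {χ : IrrCharacter G}
    {β : IrrCharacter D} :
    Cor ι p χ β ↔ ¬ MemLocalIdeal M (Cfsg.Agent.H593.GlaubermanP.b ι χ β) := by
  obtain ⟨m, hm⟩ := Cfsg.Agent.H593.GlaubermanP.exists_mult (ι := ι) χ β
  rw [Cfsg.Agent.H593.GlaubermanP.good_iff h hM hm]
  constructor
  · rintro ⟨m', hm', hp⟩ hd
    rw [hm] at hm'
    have : m = m' := by exact_mod_cast hm'
    exact hp (this ▸ hd)
  · intro hd
    exact ⟨m, hm, hd⟩

theorem cor_unique_beta (h : Setup S ι p) {χ : IrrCharacter G} (hχ : Inv S (χ : G → ℂ))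
    {β β' : IrrCharacter D} (hβ : Cor ι p χ β) (hβ' : Cor ι p χ β') : β = β' := by
  obtain ⟨M, hM⟩ := Cfsg.Agent.Blocks.ExistsModular.exists_isPModular (p := p) Fact.out
  exact Cfsg.Agent.H593.GlaubermanP.unique_beta h hM hχ ((cor_iff h hM).1 hβ)
    ((cor_iff h hM).1 hβ')

theorem cor_unique_chi (h : Setup S ι p) {χ χ' : IrrCharacter G} (hχ : Inv S (χ : G → ℂ))
    (hχ' : Inv S (χ' : G → ℂ)) {β : IrrCharacter D} (hβ : Cor ι p χ β) (hβ' : Cor ι p χ' β) :
    χ = χ' := by
  obtain ⟨M, hM⟩ := Cfsg.Agent.Blocks.ExistsModular.exists_isPModular (p := p) Fact.out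
  exact Cfsg.Agent.H593.GlaubermanP.unique_chi h hM hχ hχ' ((cor_iff h hM).1 hβ)
    ((cor_iff h hM).1 hβ')

theorem exists_cor_beta (h : Setup S ι p) (χ : IrrCharacter G) :
    ∃ β : IrrCharacter D, Cor ι p χ β := by
  obtain ⟨M, hM⟩ := Cfsg.Agent.Blocks.ExistsModular.exists_isPModular (p := p) Fact.out
  obtain ⟨β, hβ⟩ := Cfsg.Agent.H593.GlaubermanP.exists_beta h hM χ
  exact ⟨β, (cor_iff h hM).2 hβ⟩

theorem exists_cor_chi (h : Setup S ι p) (β : IrrCharacter D) :
    ∃ χ : IrrCharacter G, Inv S (χ : G → ℂ) ∧ Cor ι p χ β := by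
  obtain ⟨M, hM⟩ := Cfsg.Agent.Blocks.ExistsModular.exists_isPModular (p := p) Fact.out
  obtain ⟨χ, hχ, hb⟩ := Cfsg.Agent.H593.GlaubermanP.exists_chi h hM β
  exact ⟨χ, hχ, (cor_iff h hM).2 hb⟩

end Cor

/-- The inner product is invariant under isomorphisms. -/
theorem classInner_comp_equiv {D D' : Type*} [Group D] [Group D'] [Fintype D] [Fintype D']
    (e : D ≃* D') (f f' : D' → ℂ) :
    classInner (f ∘ e) (f' ∘ e) = classInner f f' := by
  rw [classInner_def, classInner_def, Nat.card_congr e.toEquiv]
  congr 1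
  exact Fintype.sum_equiv e.toEquiv _ _ fun _ => rfl

/-- A character twisted by an automorphism. -/
def twist {D D' : Type*} [Group D] [Group D'] (e : D ≃* D') (β : IrrCharacter D') :
    IrrCharacter D :=
  ⟨(β : D' → ℂ) ∘ e, isIrr_comp e.toMonoidHom e.surjective β.2⟩

theorem twist_apply {D D' : Type*} [Group D] [Group D'] (e : D ≃* D') (β : IrrCharacter D')
    (x : D) : (twist e β : D → ℂ) x = (β : D' → ℂ) (e x) := rfl

section Step

variable {S : Type v} [Group S] {G : Type u} [Group G] [Fintype G] [MulDistribMulAction S G]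
  {D : Type w} [Group D] [Fintype D] {ι : D →* G} {T : Subgroup S} {p : ℕ} [Fact p.Prime]

/-- The correspondence is compatible with compatible automorphisms. -/
theorem cor_twist {ι : D →* G} (a : G ≃* G) (b : D ≃* D) (hab : ∀ d, ι (b d) = a (ι d))
    {χ : IrrCharacter G} {β : IrrCharacter D} (h : Cor ι p χ β) :
    Cor ι p (twist a χ) (twist b β) := by
  obtain ⟨m, hm, hp⟩ := h
  refine ⟨m, ?_, hp⟩
  have h1 : ((twist a χ : IrrCharacter G) : G → ℂ) ∘ ι = ((χ : G → ℂ) ∘ ι) ∘ b := by
    funext d
    show (χ : G → ℂ) (a (ι d)) = (χ : G → ℂ) (ι (b d))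
    rw [hab]
  rw [h1]
  exact (classInner_comp_equiv b ((χ : G → ℂ) ∘ ι) (β : D → ℂ)).trans hm

/-- The restriction of an automorphism of `S` to the fixed points of the normal subgroup `T`. -/
def resAut (S : Type v) [Group S] (T : Subgroup S) [T.Normal] (G : Type u) [Group G]
    [MulDistribMulAction S G] (s : S) : fx T G ≃* fx T G where
  toFun d := ⟨s • (d : G), smul_mem_fx T G s d.2⟩
  invFun d := ⟨s⁻¹ • (d : G), smul_mem_fx T G s⁻¹ d.2⟩
  left_inv d := Subtype.ext (inv_smul_smul s (d : G))
  right_inv d := Subtype.ext (smul_inv_smul s (d : G))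
  map_mul' d e := Subtype.ext (smul_mul' s (d : G) (e : G))

/-- The automorphism of an element of `S`. -/
def aut (S : Type v) [Group S] (G : Type u) [Group G] [MulDistribMulAction S G] (s : S) : G ≃* G where
  toFun g := s • g
  invFun g := s⁻¹ • g
  left_inv g := inv_smul_smul s g
  right_inv g := smul_inv_smul s g
  map_mul' g h := smul_mul' s g h

/-- The setup for a normal `p`-subgroup `T` of `S` acting on `G`. -/
theorem setup_fx (T : Subgroup S) (hT : IsPGroup p T) (hG : ¬ p ∣ Nat.card G) :
    Setup T (fx T G).subtype p where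
  inj := Subtype.val_injective
  fixed g := ⟨fun h => ⟨⟨g, h⟩, rfl⟩, by rintro ⟨c, rfl⟩ s; exact c.2 s⟩
  pgroup := hT
  ndvd := hG

theorem inv_sub (T : Subgroup S) {f : G → ℂ} (hf : Inv S f) : Inv T f :=
  fun t g => hf (t : S) g

/-- If `χ` is invariant under `S`, so is its correspondent. -/
theorem inv_beta [hTn : T.Normal] [Fintype (fx T G)] (hT : IsPGroup p T) (hG : ¬ p ∣ Nat.card G)
    {χ : IrrCharacter G} (hχ : Inv S (χ : G → ℂ)) {β : IrrCharacter (fx T G)}
    (hc : Cor (fx T G).subtype p χ β) :
    letI := quotAct T G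
    Inv (S ⧸ T) (β : fx T G → ℂ) := by
  letI := quotAct T G
  have hs := setup_fx (p := p) T hT hG
  intro q d
  induction q using QuotientGroup.induction_on with
  | H s =>
    have h1 : Cor (fx T G).subtype p (twist (aut S G s) χ) (twist (resAut S T G s) β) :=
      cor_twist (aut S G s) (resAut S T G s) (fun d => rfl) hc
    have h2 : twist (aut S G s) χ = χ := Subtype.ext (funext fun g => hχ s g)
    rw [h2] at h1
    have h3 := cor_unique_beta hs (inv_sub T hχ) h1 hc
    exact congrFun (congrArg Subtype.val h3) d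

/-- If `β` is invariant under `S`, so is the `T`-invariant `χ` corresponding to it. -/
theorem inv_chi [hTn : T.Normal] [Fintype (fx T G)] (hT : IsPGroup p T) (hG : ¬ p ∣ Nat.card G)
    {χ : IrrCharacter G} (hχ : Inv T (χ : G → ℂ)) {β : IrrCharacter (fx T G)}
    (hβ : letI := quotAct T G
      Inv (S ⧸ T) (β : fx T G → ℂ)) (hc : Cor (fx T G).subtype p χ β) :
    Inv S (χ : G → ℂ) := by
  letI := quotAct T G
  have hs := setup_fx (p := p) T hT hG
  intro s g
  have h1 : Cor (fx T G).subtype p (twist (aut S G s) χ) (twist (resAut S T G s) β) :=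
    cor_twist (aut S G s) (resAut S T G s) (fun d => rfl) hc
  have h2 : twist (resAut S T G s) β = β := Subtype.ext (funext fun d => hβ (s : S ⧸ T) d)
  rw [h2] at h1
  have h4 : Inv T (twist (aut S G s) χ : G → ℂ) := by
    intro t g
    rw [twist_apply, twist_apply]
    show (χ : G → ℂ) (s • (t : S) • g) = (χ : G → ℂ) (s • g)
    have h5 : s • (t : S) • g = (⟨s * (t : S) * s⁻¹, hTn.conj_mem (t : S) t.2 s⟩ : T) • (s • g) := by
      show s • (t : S) • g = (s * (t : S) * s⁻¹) • (s • g)
      rw [smul_smul, smul_smul, inv_mul_cancel_right]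
    rw [h5, hχ]
  have h3 := cor_unique_chi hs h4 hχ h1 hc
  exact congrFun (congrArg Subtype.val h3) g

end Step

/-- **Counting invariant characters.** -/
theorem card_inv_aux (n : ℕ) : ∀ (S : Type v) [Group S] [Finite S] (G : Type u) [Group G] [Finite G]
    [MulDistribMulAction S G], Group.IsSolvable S → (Nat.card G).Coprime (Nat.card S) →
    Nat.card S = n → ∀ (D : Type w) [Group D] (ι : D →* G), Function.Injective ι →
    (∀ g : G, (∀ s : S, s • g = g) ↔ ∃ c, ι c = g) →
    Nat.card {χ : IrrCharacter G // Inv S (χ : G → ℂ)} = Nat.card (IrrCharacter D) := by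
  induction n using Nat.strong_induction_on with
  | _ n ih =>
    intro S _ _ G _ _ _ hsol hcop hn D _ ι hι hfix
    rcases subsingleton_or_nontrivial S with hS | hS
    · -- trivial action
      have h1 : ∀ (s : S) (g : G), s • g = g := fun s g => by
        rw [Subsingleton.elim s 1, one_smul]
      have hsur : Function.Surjective ι := fun g => (hfix g).1 fun s => h1 s g
      let e : D ≃* G := MulEquiv.ofBijective ι ⟨hι, hsur⟩
      refine Nat.card_congr ⟨fun χ => twist e χ.1, fun β => ⟨twist e.symm β, fun s g => by rw [h1]⟩,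
        fun χ => ?_, fun β => ?_⟩
      · refine Subtype.ext (Subtype.ext (funext fun g => ?_))
        show (χ.1 : G → ℂ) (e (e.symm g)) = (χ.1 : G → ℂ) g
        rw [e.apply_symm_apply]
      · refine Subtype.ext (funext fun d => ?_)
        show (β : D → ℂ) (e.symm (e d)) = (β : D → ℂ) d
        rw [e.symm_apply_apply]
    · have := Fintype.ofFinite G
      obtain ⟨p, T, hp, hTn, hTp, -, hT1⟩ :=
        Cfsg.Agent.Lib.SolvableNormalP.exists_normal_pSubgroup S
      have : Fact p.Prime := ⟨hp⟩
      have hpS : p ∣ Nat.card S := by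
        obtain ⟨k, hk⟩ := IsPGroup.iff_card.1 hTp
        have hk0 : k ≠ 0 := by
          rintro rfl
          rw [pow_zero] at hk
          exact hT1 (Subgroup.card_eq_one.1 hk)
        have h2 : p ∣ Nat.card T := by
          rw [hk]
          exact dvd_pow_self p hk0
        exact h2.trans (Subgroup.card_subgroup_dvd_card T)
      have hG : ¬ p ∣ Nat.card G := fun hd => by
        have h3 := Nat.dvd_gcd hd hpS
        rw [hcop] at h3
        exact hp.one_lt.ne' (Nat.dvd_one.1 h3)
      have hs := setup_fx (p := p) (G := G) T hTp hG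
      have := Fintype.ofFinite (fx T G)
      letI := quotAct T G
      -- the quotient is smaller
      have hlt : Nat.card (S ⧸ T) < n := by
        rw [← hn, ← Subgroup.index_eq_card]
        have h1 := Subgroup.card_mul_index T
        have h2 : 1 < Nat.card T := (Subgroup.one_lt_card_iff_ne_bot T).2 hT1
        have h3 : 0 < T.index := Nat.pos_of_ne_zero T.index_ne_zero_of_finite
        nlinarith
      have hmem : ∀ c : D, ι c ∈ fx T G := fun c t => (hfix (ι c)).2 ⟨c, rfl⟩ (t : S)
      let ι' : D →* fx T G := ι.codRestrict (fx T G) hmem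
      have hsol' : Group.IsSolvable (S ⧸ T) := inferInstance
      have hcop' : (Nat.card (fx T G)).Coprime (Nat.card (S ⧸ T)) :=
        Nat.Coprime.coprime_dvd_left (Subgroup.card_subgroup_dvd_card _)
          (Nat.Coprime.coprime_dvd_right (Subgroup.card_quotient_dvd_card T) hcop)
      have key := ih (Nat.card (S ⧸ T)) hlt (S ⧸ T) (fx T G) hsol' hcop' rfl D ι'
        (fun c c' h => hι (congrArg Subtype.val h)) (by
          intro g
          constructor
          · intro h
            obtain ⟨c, hc⟩ := (hfix (g : G)).1 fun s => congrArg Subtype.val (h (s : S ⧸ T))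
            exact ⟨c, Subtype.ext hc⟩
          · rintro ⟨c, rfl⟩ q
            induction q using QuotientGroup.induction_on with
            | H s => exact Subtype.ext ((hfix (ι c)).2 ⟨c, rfl⟩ s))
      rw [← key]
      choose f hf using fun χ : IrrCharacter G => exists_cor_beta hs χ
      refine Nat.card_congr (Equiv.ofBijective (fun χ => ⟨f χ.1,
        inv_beta hTp hG χ.2 (hf χ.1)⟩) ⟨?_, ?_⟩)
      · intro χ χ' h
        have h1 : f χ.1 = f χ'.1 := congrArg Subtype.val h
        have h2 := hf χ'.1
        rw [← h1] at h2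
        exact Subtype.ext (cor_unique_chi hs (inv_sub T χ.2) (inv_sub T χ'.2) (hf χ.1) h2)
      · intro β
        obtain ⟨χ, hχ, hc⟩ := exists_cor_chi hs β.1
        have h1 := inv_chi hTp hG hχ β.2 hc
        refine ⟨⟨χ, h1⟩, Subtype.ext ?_⟩
        exact cor_unique_beta hs hχ (hf χ) hc

/-- **Counting invariant characters**: `S` solvable acts coprimely on `G` with fixed points
`D`: the number of `S`-invariant irreducible characters of `G` is that of all irreducible
characters of `D`. -/
theorem card_inv {S : Type v} [Group S] [Finite S] {G : Type u} [Group G] [Finite G]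
    [MulDistribMulAction S G] (hsol : Group.IsSolvable S)
    (hcop : (Nat.card G).Coprime (Nat.card S)) {D : Type w} [Group D] (ι : D →* G)
    (hι : Function.Injective ι) (hfix : ∀ g : G, (∀ s : S, s • g = g) ↔ ∃ c, ι c = g) :
    Nat.card {χ : IrrCharacter G // Inv S (χ : G → ℂ)} = Nat.card (IrrCharacter D) :=
  card_inv_aux (Nat.card S) S G hsol hcop rfl D ι hι hfix

end Cfsg.Agent.H595.Solv
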