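import Cfsg.Agent.S4735
import Cfsg.Agent.H594.CosetSum
import Cfsg.Prelude.Def_BlockRank

/-!
# The `p`-regular rank and normal subgroups

* `rank_quot`, `card_quot` : the principal block of `G / N`, `N` a normal `p'`-subgroup;
* `rank_normal_sylow` : if `Q` is a normal `p`-subgroup of `p'`-index then the `p`-regular rank of a set of
  characters containing the inflations from `G / Q` is `|Irr (G / Q)|`.
-/

set_option autoImplicit false
set_option linter.unusedSectionVars false

namespace Cfsg.Agent.H595.NormalRank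

open Cfsg Cfsg.Agent.Characters.Core Cfsg.Agent.Blocks Subgroup Module
open Cfsg.Agent.S4735 (infl infl_apply bijOn_infl)

variable {G : Type*} [Group G] [Finite G] {p : ℕ} [Fact p.Prime] {M : Ideal AlgInt}

theorem regular_of_mk (N : Subgroup G) [N.Normal] (hN : ¬ p ∣ Nat.card N) {g : G}
    (hg : ¬ p ∣ orderOf (QuotientGroup.mk g : G ⧸ N)) : ¬ p ∣ orderOf g := by
  have hp : p.Prime := Fact.out
  intro h
  set m := orderOf (QuotientGroup.mk g : G ⧸ N) with hm
  have h1 : g ^ m ∈ N := by
    rw [← QuotientGroup.eq_one_iff, QuotientGroup.mk_pow, pow_orderOf_eq_one]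
  have h2 : (g ^ m) ^ Nat.card N = 1 := by
    have := pow_card_eq_one' (x := (⟨g ^ m, h1⟩ : N))
    exact congrArg Subtype.val this
  rw [← pow_mul] at h2
  have h3 := h.trans (orderOf_dvd_of_pow_eq_one h2)
  rcases hp.dvd_mul.1 h3 with h4 | h4
  · exact hg h4
  · exact hN h4

theorem regular_mk (N : Subgroup G) [N.Normal] {g : G} (hg : ¬ p ∣ orderOf g) :
    ¬ p ∣ orderOf (QuotientGroup.mk g : G ⧸ N) := fun h =>
  hg (h.trans (orderOf_map_dvd (QuotientGroup.mk' N) g))

theorem pRegularPart_of {χ : G → ℂ} {g : G} (hg : ¬ p ∣ orderOf g) : pRegularPart p χ g = χ g := by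
  simp only [pRegularPart]
  exact if_pos hg

theorem pRegularPart_of_not {χ : G → ℂ} {g : G} (hg : p ∣ orderOf g) : pRegularPart p χ g = 0 := by
  simp only [pRegularPart]
  exact if_neg fun h => h hg

/-- Inflation from the quotient by a normal `p'`-subgroup preserves the `p`-regular rank. -/
theorem rank_infl (N : Subgroup G) [N.Normal] (hN : ¬ p ∣ Nat.card N)
    (B : Set (IrrCharacter (G ⧸ N))) : blockRank p (infl N '' B) = blockRank p B := by
  let L : ((G ⧸ N) → ℂ) →ₗ[ℂ] (G → ℂ) := LinearMap.funLeft ℂ ℂ (QuotientGroup.mk : G → G ⧸ N)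
  have hL : Function.Injective L := by
    intro f g h
    funext x
    obtain ⟨y, rfl⟩ := QuotientGroup.mk_surjective x
    exact congrFun h y
  have h1 : ((fun χ : IrrCharacter G => pRegularPart p (χ : G → ℂ)) '' (infl N '' B)) =
      L '' ((fun χ : IrrCharacter (G ⧸ N) => pRegularPart p (χ : G ⧸ N → ℂ)) '' B) := by
    rw [← Set.image_comp, ← Set.image_comp]
    apply Set.image_congr
    intro χ _
    show pRegularPart p (infl N χ : G → ℂ) = fun g => pRegularPart p (χ : G ⧸ N → ℂ) (QuotientGroup.mk g)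
    funext g
    by_cases hg : p ∣ orderOf g
    · rw [pRegularPart_of_not hg]
      have h2 : p ∣ orderOf (QuotientGroup.mk g : G ⧸ N) := by
        by_contra h
        exact regular_of_mk N hN h hg
      rw [pRegularPart_of_not h2]
    · rw [pRegularPart_of hg, pRegularPart_of (regular_mk N hg)]
      rfl
  unfold blockRank
  rw [h1, Submodule.span_image]
  exact (Submodule.equivMapOfInjective L hL _).finrank_eq.symm

theorem rank_quot (hM : IsPModular p M) (N : Subgroup G) [N.Normal] (hN : ¬ p ∣ Nat.card N) :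
    blockRank p (principalBlock M G) = blockRank p (principalBlock M (G ⧸ N)) := by
  rw [← rank_infl N hN, (bijOn_infl hM N hN).image_eq]

theorem card_quot (hM : IsPModular p M) (N : Subgroup G) [N.Normal] (hN : ¬ p ∣ Nat.card N) :
    Nat.card (principalBlock M G) = Nat.card (principalBlock M (G ⧸ N)) := by
  rw [← (bijOn_infl hM N hN).image_eq]
  exact Nat.card_congr (Equiv.ofBijective _ ((bijOn_infl hM N hN).injOn.bijOn_image).bijective).symm

/-- `p`-regular elements in a coset of a normal `p`-subgroup are conjugate. -/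
theorem isConj_of_mk_eq (Q : Subgroup G) [Q.Normal] (hQ : IsPGroup p Q) {y y' : G}
    (hy : ¬ p ∣ orderOf y) (hy' : ¬ p ∣ orderOf y')
    (h : (QuotientGroup.mk y : G ⧸ Q) = QuotientGroup.mk y') : IsConj y y' := by
  have hp : p.Prime := Fact.out
  have h1 : y' * y⁻¹ ∈ Q := by
    have h2 : (QuotientGroup.mk y' : G ⧸ Q) * (QuotientGroup.mk y)⁻¹ = 1 := by
      rw [h, mul_inv_cancel]
    rw [← QuotientGroup.mk_inv, ← QuotientGroup.mk_mul, QuotientGroup.eq_one_iff] at h2
    exact h2
  obtain ⟨n, hn⟩ := IsPGroup.iff_card.1 hQ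
  have hcop : (Nat.card Q).Coprime (Nat.card (zpowers y)) := by
    rw [hn, Nat.card_zpowers]
    exact Nat.Coprime.pow_left _ ((Nat.Prime.coprime_iff_not_dvd hp).2 hy)
  obtain ⟨x, hx, c, hc, hxc⟩ := H594.CosetSum.exists_conj_mul (G := Q) (S := zpowers y)
    (fun s _ g hg => ‹Q.Normal›.conj_mem g hg s) hcop rfl h1
  rw [inv_mul_cancel_right] at hxc
  have hcy : Commute c y := (mem_centralizer_iff.1 hc.2 y (mem_zpowers y)).symm
  have hoc : ¬ p ∣ orderOf (c * y) := by
    have h3 : orderOf (x * (c * y) * x⁻¹) = orderOf (c * y) :=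
      MulEquiv.orderOf_eq (MulAut.conj x) (c * y)
    rw [← h3, ← hxc]
    exact hy'
  have hc1 : c = 1 := by
    obtain ⟨k, hk⟩ := IsPGroup.iff_orderOf.1 hQ ⟨c, hc.1⟩
    rw [Subgroup.orderOf_mk] at hk
    have h4 : (orderOf c).Coprime (orderOf y) := by
      rw [hk]
      exact Nat.Coprime.pow_left _ ((Nat.Prime.coprime_iff_not_dvd hp).2 hy)
    have h5 := hcy.orderOf_mul_eq_mul_orderOf_of_coprime h4
    rcases Nat.eq_zero_or_pos k with h6 | h6
    · rw [h6, pow_zero] at hk
      exact orderOf_eq_one_iff.1 hk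
    · exfalso
      apply hoc
      rw [h5, hk]
      exact Dvd.dvd.mul_right (dvd_pow_self p h6.ne') _
  rw [hc1, one_mul] at hxc
  exact isConj_iff.2 ⟨x, hxc.symm⟩

/-- Every coset of a normal `p`-subgroup of `p'`-index contains a `p`-regular element. -/
theorem exists_regular (Q : Subgroup G) [Q.Normal] (hi : ¬ p ∣ Q.index) (c : G ⧸ Q) :
    ∃ y : G, ¬ p ∣ orderOf y ∧ (QuotientGroup.mk y : G ⧸ Q) = c := by
  have hp : p.Prime := Fact.out
  obtain ⟨g, rfl⟩ := QuotientGroup.mk_surjective c
  obtain ⟨z, y, hzy, -, ⟨k, hk⟩, hy⟩ := PPart.exists_isPPart p g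
  refine ⟨y, hy, ?_⟩
  have h1 : orderOf (QuotientGroup.mk z : G ⧸ Q) ∣ p ^ k := by
    rw [← hk]
    exact orderOf_map_dvd (QuotientGroup.mk' Q) z
  have h2 : orderOf (QuotientGroup.mk z : G ⧸ Q) ∣ Q.index := by
    rw [Subgroup.index]
    exact orderOf_dvd_natCard _
  have h3 : orderOf (QuotientGroup.mk z : G ⧸ Q) = 1 :=
    Nat.dvd_one.1 ((Nat.Coprime.gcd_eq_one (Nat.Coprime.pow_left k
      ((Nat.Prime.coprime_iff_not_dvd hp).2 hi))) ▸ Nat.dvd_gcd h1 h2)
  rw [← hzy, QuotientGroup.mk_mul, orderOf_eq_one_iff.1 h3, one_mul]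

/-- **The rank for a normal Sylow subgroup.** -/
theorem rank_normal_sylow (Q : Subgroup G) [Q.Normal] (hQ : IsPGroup p Q) (hi : ¬ p ∣ Q.index)
    (B : Set (IrrCharacter G)) (hB : ∀ θ : IrrCharacter (G ⧸ Q), infl Q θ ∈ B) :
    blockRank p B = Nat.card (IrrCharacter (G ⧸ Q)) := by
  classical
  have := Fintype.ofFinite G
  have := Fintype.ofFinite (G ⧸ Q)
  have := finite_irr (G := G ⧸ Q)
  have := Fintype.ofFinite (IrrCharacter (G ⧸ Q))
  choose y hy1 hy2 using exists_regular Q hi (p := p)
  let v : IrrCharacter (G ⧸ Q) → G → ℂ := fun θ => pRegularPart p (infl Q θ : G → ℂ)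
  have hv : LinearIndependent ℂ v := by
    rw [Fintype.linearIndependent_iff]
    intro c hc
    have h1 := Fintype.linearIndependent_iff.1 (irr_linearIndependent (G := G ⧸ Q)) c
    apply h1
    funext d
    have h2 := congrFun hc (y d)
    rw [Finset.sum_apply] at h2
    rw [Finset.sum_apply, Pi.zero_apply]
    rw [Pi.zero_apply] at h2
    rw [← h2]
    refine Finset.sum_congr rfl fun θ _ => ?_
    rw [Pi.smul_apply, Pi.smul_apply]
    congr 1
    show (θ : G ⧸ Q → ℂ) d = pRegularPart p (infl Q θ : G → ℂ) (y d)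
    rw [pRegularPart_of (hy1 d), infl_apply, hy2]
  have hspan : Submodule.span ℂ ((fun χ : IrrCharacter G => pRegularPart p (χ : G → ℂ)) '' B) =
      Submodule.span ℂ (Set.range v) := by
    apply le_antisymm
    · rw [Submodule.span_le]
      rintro _ ⟨χ, -, rfl⟩
      have hcf := isIrr_isClassFunction χ.2
      have hconst : ∀ g g' : G, IsConj g g' → (χ : G → ℂ) g = (χ : G → ℂ) g' := by
        intro g g' h
        obtain ⟨c, rfl⟩ := isConj_iff.1 h
        exact (hcf g c).symm
      let F : G ⧸ Q → ℂ := fun d => (χ : G → ℂ) (y d)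
      have hF : ∀ g : G, ¬ p ∣ orderOf g → F (QuotientGroup.mk g) = (χ : G → ℂ) g := by
        intro g hg
        exact hconst _ _ (isConj_of_mk_eq Q hQ (hy1 _) hg (hy2 _))
      have hFc : IsClassFunction (G ⧸ Q) F := by
        intro d c
        obtain ⟨g, rfl⟩ := QuotientGroup.mk_surjective c
        have h1 : (QuotientGroup.mk g : G ⧸ Q) * d * (QuotientGroup.mk g)⁻¹ =
            QuotientGroup.mk (g * y d * g⁻¹) := by
          rw [QuotientGroup.mk_mul, QuotientGroup.mk_mul, QuotientGroup.mk_inv, hy2]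
        rw [h1, hF]
        · exact hcf _ _
        · have h3 : orderOf (g * y d * g⁻¹) = orderOf (y d) :=
            MulEquiv.orderOf_eq (MulAut.conj g) (y d)
          rw [h3]; exact hy1 d
      have h4 : pRegularPart p (χ : G → ℂ) =
          ∑ θ : IrrCharacter (G ⧸ Q), classInner F (θ : G ⧸ Q → ℂ) • v θ := by
        funext g
        rw [Finset.sum_apply]
        by_cases hg : p ∣ orderOf g
        · rw [pRegularPart_of_not hg]
          refine (Finset.sum_eq_zero fun θ _ => ?_).symm
          rw [Pi.smul_apply]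
          show _ • pRegularPart p (infl Q θ : G → ℂ) g = 0
          rw [pRegularPart_of_not hg, smul_zero]
        · rw [pRegularPart_of hg, ← hF g hg]
          conv_lhs => rw [classFunction_eq_sum hFc]
          rw [Finset.sum_apply]
          refine Finset.sum_congr rfl fun θ _ => ?_
          rw [Pi.smul_apply, Pi.smul_apply]
          congr 1
          show _ = pRegularPart p (infl Q θ : G → ℂ) g
          rw [pRegularPart_of hg, infl_apply]
      show pRegularPart p (χ : G → ℂ) ∈ _
      rw [h4]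
      exact Submodule.sum_mem _ fun θ _ =>
        Submodule.smul_mem _ _ (Submodule.subset_span ⟨θ, rfl⟩)
    · rw [Submodule.span_le]
      rintro _ ⟨θ, rfl⟩
      exact Submodule.subset_span ⟨infl Q θ, hB θ, rfl⟩
  unfold blockRank
  rw [hspan, finrank_span_eq_card hv, Nat.card_eq_fintype_card]

end Cfsg.Agent.H595.NormalRank
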