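import Cfsg.Agent.H685.AcdCount
import Cfsg.Agent.CharactersDeep.CliffordSum

/-!
# A lower bound for the degrees over an irreducible character of a normal subgroup
(helper595, for S4831)

`K` normal in `G`, `θ ∈ Irr(K)`, `χ₀ ∈ Irr(G)` with `[χ₀_K, θ] = e ≠ 0`:
`θ(1) ∑_{β ∈ Irr(G/K)} β(1) ≤ e ∑_{χ ∈ Irr(G|θ)} χ(1)`.
-/

set_option autoImplicit false
set_option linter.unusedSectionVars false

namespace Cfsg.Agent.H595.AvgTwo

open Cfsg
open scoped ComplexConjugate
open Cfsg.Agent.Characters.Core
open Cfsg.Agent.OddOrderCharacters.IndRes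

universe u

/-- `K` lies in the kernel. -/
def KerP {G : Type u} [Group G] (K : Subgroup G) (β : IrrCharacter G) : Prop :=
  ∀ k ∈ K, (β : G → ℂ) k = (β : G → ℂ) 1

/-- Lying over `θ`. -/
def OverP {G : Type u} [Group G] (K : Subgroup G) [Fintype K] (θ : K → ℂ) (χ : IrrCharacter G) :
    Prop := classInner (res K (χ : G → ℂ)) θ ≠ 0

variable {G : Type u} [Group G] [Fintype G] (K : Subgroup G) [hK : K.Normal] [Fintype K]

/-- The multiplicity of the trivial character in a restriction to a normal subgroup. -/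
theorem ker_of_inner_one {χ : G → ℂ} (hχ : IsIrrCharacter G χ)
    (h : classInner (res K χ) 1 ≠ 0) : ∀ k ∈ K, χ k = χ 1 := by
  intro k hk
  have h1 := Cfsg.Agent.OddOrderCharacters.PF9.CliffGen.res_of_invariant (N := K)
    (θ := 1) isIrr_one (fun g => rfl) hχ h ⟨k, hk⟩
  simpa using h1

theorem inner_one_of_ker {χ : G → ℂ} (h : ∀ k ∈ K, χ k = χ 1) :
    classInner (res K χ) 1 = χ 1 := by
  have h1 : res K χ = (χ 1) • (1 : K → ℂ) := by
    funext k
    show χ k = χ 1 * 1
    rw [h k k.2, mul_one]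
  rw [h1, classInner_smul_left, classInner_irr_self isIrr_one, mul_one]

open scoped Classical in
/-- `[χ₀_K, χ_K] = ∑_β β(1) [χ₀ β, χ]`, `β` over the characters of `G / K`. -/
theorem inner_res_eq [Fintype (IrrCharacter G)] {χ₀ χ : G → ℂ} (h₀ : IsClassFunction G χ₀)
    (hχ : IsClassFunction G χ) :
    classInner (res K χ₀) (res K χ) =
      ∑ β ∈ Finset.univ.filter (KerP K),
        (charDegree (β : G → ℂ) : ℂ) * classInner (χ₀ * (β : G → ℂ)) χ := by
  classical
  have hcl : IsClassFunction G (indFun K (1 : K → ℂ)) :=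
    isCharacter_isClassFunction (isCharacter_indFun K isCharacter_one)
  have h1 : indFun K (1 : K → ℂ) = ∑ β ∈ Finset.univ.filter (KerP K), (charDegree (β : G → ℂ) : ℂ) • (β : G → ℂ) := by
    conv_lhs => rw [classFunction_eq_sum hcl]
    rw [Finset.sum_filter]
    refine Finset.sum_congr rfl fun β _ => ?_
    have h2 : classInner (indFun K (1 : K → ℂ)) (β : G → ℂ) =
        conj (classInner (res K (β : G → ℂ)) 1) := by
      rw [classInner_indFun_left K 1 (isIrr_isClassFunction β.2), classInner_conj_symm]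
    split_ifs with h
    · rw [h2, inner_one_of_ker K h, Cfsg.Agent.Blocks.Basic.irr_one_eq_charDegree β.2,
        Complex.conj_natCast]
    · have h3 : classInner (res K (β : G → ℂ)) 1 = 0 := by
        by_contra hcon
        exact h (ker_of_inner_one K β.2 hcon)
      rw [h2, h3, map_zero, zero_smul]
  have h2 : indFun K (res K χ₀) = indFun K 1 * χ₀ := by
    rw [← indFun_mul K 1 h₀, one_mul]
  rw [← classInner_indFun_left K _ hχ, h2, h1, Finset.sum_mul, classInner_sum_left]
  refine Finset.sum_congr rfl fun β _ => ?_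
  rw [smul_mul_assoc, classInner_smul_left, mul_comm (β : G → ℂ)]

open scoped Classical in
/-- See the module docstring. -/
theorem star [Fintype (IrrCharacter G)] {θ : K → ℂ} (hθ : IsIrrCharacter K θ)
    {χ₀ : G → ℂ} (h₀ : IsIrrCharacter G χ₀) {e : ℕ} (he : classInner (res K χ₀) θ = e)
    (he0 : e ≠ 0) :
    charDegree θ * ∑ β ∈ Finset.univ.filter (KerP K),
        charDegree (β : G → ℂ) ≤
      e * ∑ χ ∈ Finset.univ.filter (OverP K θ),
        charDegree (χ : G → ℂ) := by
  classical
  set O : Finset (K → ℂ) :=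
    Finset.univ.image (fun x : G => θ ∘ (MulAut.conjNormal x : MulAut K)) with hO
  have hOirr : ∀ ψ ∈ O, IsIrrCharacter K ψ := by
    intro ψ hψ
    obtain ⟨x, -, rfl⟩ := Finset.mem_image.1 hψ
    exact Cfsg.Agent.Characters.Clifford.isIrr_conjNormal hθ x
  have hO1 : ∀ ψ ∈ O, ψ 1 = θ 1 := by
    intro ψ hψ
    obtain ⟨x, -, rfl⟩ := Finset.mem_image.1 hψ
    show θ (MulAut.conjNormal x 1) = θ 1
    rw [map_one]
  -- multiplicities over `θ`
  have hm : ∀ χ : IrrCharacter G, ∃ m : ℕ, classInner (res K (χ : G → ℂ)) θ = m := fun χ =>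
    classInner_isNat (isCharacter_res K (isIrr_isCharacter χ.2)) (isIrr_isCharacter hθ)
  choose m hm using hm
  have hres : ∀ χ : G → ℂ, IsIrrCharacter G χ → ∀ m : ℕ, classInner (res K χ) θ = m → m ≠ 0 →
      res K χ = (m : ℂ) • ∑ ψ ∈ O, ψ := by
    intro χ hχ m hm hm0
    have h1 := Cfsg.Agent.CharactersDeep.CliffordSum.restrict_eq_smul_sum K hχ hθ (by
      show classInner (res K χ) θ ≠ 0
      rw [hm]
      exact_mod_cast hm0)
    have h2 : classInner (fun n : K => χ n) θ = m := hm
    rw [h2] at h1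
    exact h1
  -- the inner products of the restrictions
  have hin : ∀ χ : IrrCharacter G, classInner (res K χ₀) (res K (χ : G → ℂ)) =
      ((e * O.card * m χ : ℕ) : ℂ) := by
    intro χ
    have h1 : ∀ ψ ∈ O, classInner ψ (res K (χ : G → ℂ)) = (m χ : ℂ) := by
      intro ψ hψ
      obtain ⟨x, -, rfl⟩ := Finset.mem_image.1 hψ
      rw [← classInner_conj_symm]
      have h2 := Cfsg.Agent.Characters.Clifford.classInner_restrict_conjNormal (N := K)
        (isIrr_isClassFunction χ.2) θ x
      have h3 : classInner (res K (χ : G → ℂ)) (θ ∘ (MulAut.conjNormal x : MulAut K)) = m χ := by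
        rw [← hm χ]
        exact h2
      rw [h3, Complex.conj_natCast]
    rw [hres χ₀ h₀ e he he0, classInner_smul_left, classInner_sum_left, Finset.sum_congr rfl h1,
      Finset.sum_const, nsmul_eq_mul]
    push_cast
    ring
  -- degrees
  have hdeg : ∀ χ : IrrCharacter G, m χ ≠ 0 →
      charDegree (χ : G → ℂ) = m χ * O.card * charDegree θ := by
    intro χ h0
    have h1 := congrFun (hres χ χ.2 (m χ) (hm χ) h0) 1
    rw [res_apply, Pi.smul_apply, Finset.sum_apply, Finset.sum_congr rfl hO1, Finset.sum_const,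
      OneMemClass.coe_one, Cfsg.Agent.Blocks.Basic.irr_one_eq_charDegree χ.2,
      Cfsg.Agent.Blocks.Basic.irr_one_eq_charDegree hθ, nsmul_eq_mul, smul_eq_mul] at h1
    have h2 : ((charDegree (χ : G → ℂ) : ℕ) : ℂ) = ((m χ * O.card * charDegree θ : ℕ) : ℂ) := by
      rw [h1]
      push_cast
      ring
    exact_mod_cast h2
  -- the products
  have hn : ∀ β χ : IrrCharacter G, ∃ n : ℕ, classInner (χ₀ * (β : G → ℂ)) (χ : G → ℂ) = n :=
    fun β χ => classInner_isNat (isCharacter_mul (isIrr_isCharacter h₀) (isIrr_isCharacter β.2))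
      (isIrr_isCharacter χ.2)
  choose n hn using hn
  have hsum : ∀ χ : IrrCharacter G, e * O.card * m χ =
      ∑ β ∈ Finset.univ.filter (KerP K),
        charDegree (β : G → ℂ) * n β χ := by
    intro χ
    have h1 := inner_res_eq K (isIrr_isClassFunction h₀) (isIrr_isClassFunction χ.2)
    rw [hin] at h1
    simp_rw [hn] at h1
    exact_mod_cast h1
  have hpos : ∀ β : IrrCharacter G, 1 ≤ ∑ χ : IrrCharacter G, n β χ := by
    intro β
    by_contra hcon
    have h0 : ∑ χ : IrrCharacter G, n β χ = 0 := by omega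
    have h1 : ∀ χ : IrrCharacter G, n β χ = 0 := fun χ =>
      (Finset.sum_eq_zero_iff.1 h0) χ (Finset.mem_univ _)
    have h2 := classFunction_eq_zero (isCharacter_isClassFunction
      (isCharacter_mul (isIrr_isCharacter h₀) (isIrr_isCharacter β.2))) (by
        intro χ hχ
        rw [hn β ⟨χ, hχ⟩, h1, Nat.cast_zero])
    have h3 := congrFun h2 1
    rw [Pi.mul_apply] at h3
    rcases mul_eq_zero.1 h3 with h | h
    · exact isIrr_apply_one_ne_zero h₀ h
    · exact isIrr_apply_one_ne_zero β.2 h
  have hmiff : ∀ χ : IrrCharacter G, OverP K θ χ ↔ m χ ≠ 0 := by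
    intro χ
    unfold OverP
    rw [hm]
    exact Nat.cast_ne_zero
  calc charDegree θ * ∑ β ∈ Finset.univ.filter (KerP K),
        charDegree (β : G → ℂ)
      ≤ charDegree θ * ∑ β ∈ Finset.univ.filter (KerP K),
        charDegree (β : G → ℂ) * ∑ χ : IrrCharacter G, n β χ := by
        refine Nat.mul_le_mul_left _ (Finset.sum_le_sum fun β _ => ?_)
        exact Nat.le_mul_of_pos_right _ (hpos β)
    _ = charDegree θ * ∑ χ : IrrCharacter G, e * O.card * m χ := by
        congr 1
        simp_rw [hsum, Finset.mul_sum]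
        rw [Finset.sum_comm]
    _ = charDegree θ * ∑ χ ∈ Finset.univ.filter (OverP K θ),
          e * O.card * m χ := by
        congr 1
        rw [Finset.sum_filter]
        refine Finset.sum_congr rfl fun χ _ => ?_
        by_cases h : m χ = 0
        · rw [if_neg (by rw [hmiff, not_not]; exact h), h, mul_zero]
        · rw [if_pos ((hmiff χ).2 h)]
    _ = e * ∑ χ ∈ Finset.univ.filter (OverP K θ),
          charDegree (χ : G → ℂ) := by
        rw [Finset.mul_sum, Finset.mul_sum]
        refine Finset.sum_congr rfl fun χ hχ => ?_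
        rw [Finset.mem_filter] at hχ
        rw [hdeg χ ((hmiff χ).1 hχ.2)]
        ring
    _ ≤ _ := le_rfl

end Cfsg.Agent.H595.AvgTwo
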