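import Cfsg.Agent.H595.AvgTwoK
import Cfsg.Agent.H595.AvgTwoStar
import Cfsg.Agent.CharactersDeep.ExtUnique

/-!
# Irreducible characters of degree two which are nontrivial on a perfect normal subgroup
(helper595, for S4831)

`K` perfect and normal in `G`, `θ ∈ Irr(K)`: the number of `χ ∈ Irr(G)` of degree two with
`K ⊄ ker χ` is at most twice the number of `χ ∈ Irr(G)` of degree four not over `θ`, provided
`θ` is not `x³ - 2 x` for a character `x` of degree two.
-/

set_option autoImplicit false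
set_option linter.unusedSectionVars false

namespace Cfsg.Agent.H595.AvgTwo

open Cfsg
open scoped ComplexConjugate
open Cfsg.Agent.Characters.Core
open Cfsg.Agent.OddOrderCharacters.IndRes (res res_apply isCharacter_res)
open Cfsg.Agent.OddOrderCharacters.Clifford (isCharacter_sub_irr)

universe u

variable {G : Type u} [Group G] [Fintype G] (K : Subgroup G) [hKn : K.Normal] [Fintype K]

omit hKn in
/-- A character with irreducible restriction is irreducible. -/
theorem irr_of_res {χ : G → ℂ} (hc : IsCharacter G χ) (h : IsIrrCharacter K (res K χ)) :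
    IsIrrCharacter G χ := by
  have hne : χ ≠ 0 := by
    rintro rfl
    exact isIrr_ne_zero h rfl
  obtain ⟨η, hη, h2⟩ := Cfsg.Agent.OddOrderCharacters.PF4Type.exists_irr_constituent hc hne
  have h3 := isCharacter_sub_irr hc hη h2
  by_cases h0 : χ - η = 0
  · rw [sub_eq_zero] at h0
    rwa [h0]
  · exfalso
    have hηK := isCharacter_res K (isIrr_isCharacter hη)
    have hκK := isCharacter_res K h3
    have hsum : res K χ = res K η + res K (χ - η) := by
      funext k
      show χ k = η k + (χ k - η k)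
      ring
    obtain ⟨a, ha⟩ := classInner_isNat hηK hηK
    obtain ⟨b, hb⟩ := classInner_isNat hκK hκK
    obtain ⟨c, hc'⟩ := classInner_isNat hηK hκK
    obtain ⟨d, hd⟩ := classInner_isNat hκK hηK
    have h5 := classInner_irr_self h
    rw [hsum, classInner_add_left, classInner_add_right, classInner_add_right, ha, hb, hc', hd]
      at h5
    have h6 : a + c + (d + b) = 1 := by exact_mod_cast h5
    have ha0 : a ≠ 0 := by
      rintro rfl
      have h7 : res K η = 0 := classInner_self_eq_zero (by rw [ha, Nat.cast_zero])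
      exact isIrr_apply_one_ne_zero hη (congrFun h7 1)
    have hb0 : b ≠ 0 := by
      rintro rfl
      have h7 : res K (χ - η) = 0 := classInner_self_eq_zero (by rw [hb, Nat.cast_zero])
      exact h0 (eq_zero_of_apply_one h3 (congrFun h7 1))
    omega

/-- Twists fixing a character with irreducible restriction. -/
theorem twist_unique {χ : G → ℂ} (hχ : IsIrrCharacter G χ) (hχK : IsIrrCharacter K (res K χ))
    (β : G →* ℂˣ) (hβ : ∀ n ∈ K, β n = 1) (h : ∀ g, χ g * β g = χ g) : β = 1 := by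
  have h1 := Cfsg.Agent.H685.Acd.card_stab_le (N := K) K.subtype hχ (m := 1) (by
    rw [Nat.cast_one]
    exact classInner_irr_self hχK)
  have hfin := Cfsg.Agent.H685.Acd.finite_hom G
  have h2 : Subsingleton {g : G →* ℂˣ // (∀ n, g (K.subtype n) = 1) ∧
      ∀ t, (g t : ℂ) * χ t = χ t} := Finite.card_le_one_iff_subsingleton.1 h1
  have h3 := h2.elim ⟨β, fun n => hβ n n.2, fun t => by rw [mul_comm]; exact h t⟩
    ⟨1, fun n => rfl, fun t => by simp⟩
  exact congrArg Subtype.val h3

/-- Characters with equal irreducible restrictions. -/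
theorem eq_of_twist {χ χ' : IrrCharacter G} (hK : IsIrrCharacter K (res K (χ : G → ℂ)))
    (hres : res K (χ : G → ℂ) = res K (χ' : G → ℂ)) (F : (G → ℂ) → G → ℂ)
    (hF : ∀ (φ : G → ℂ) (β : G →* ℂˣ), F (fun g => φ g * β g) = fun g => F φ g * β g)
    (hirr : IsIrrCharacter G (F χ)) (hirrK : IsIrrCharacter K (res K (F χ)))
    (heq : F (χ : G → ℂ) = F (χ' : G → ℂ)) : χ = χ' := by
  obtain ⟨β, hβ, h⟩ := Cfsg.Agent.CharactersDeep.ExtUnique.exists_hom_mul_of_restrict_eq K
    (isIrr_isCharacter χ.2) (isIrr_isCharacter χ'.2) hK (fun n => rfl)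
    (fun n => (congrFun hres n).symm)
  have h1 : (χ' : G → ℂ) = fun g => (χ : G → ℂ) g * β g := funext h
  have h2 : β = 1 := twist_unique K hirr hirrK β hβ (fun g => by
    have h3 : F (χ' : G → ℂ) g = F (χ : G → ℂ) g * β g := by rw [h1, hF]
    rw [← h3, heq])
  apply Subtype.ext
  rw [h1, h2]
  funext g
  simp

section perfect

variable (hK : ∀ f : K →* ℂˣ, f = 1)

include hK

theorem res_two {χ : IrrCharacter G} (hd : charDegree (χ : G → ℂ) = 2) (hker : ¬ KerP K χ) :
    Two (res K (χ : G → ℂ)) := by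
  have hdeg : res K (χ : G → ℂ) 1 = 2 := by
    rw [res_apply, OneMemClass.coe_one, Cfsg.Agent.Blocks.Basic.irr_one_eq_charDegree χ.2, hd]
    rfl
  refine ⟨irr_two hK (isCharacter_res K (isIrr_isCharacter χ.2)) (by rw [hdeg]; rfl) ?_, hdeg⟩
  by_contra hcon
  exact hker (ker_of_inner_one K χ.2 hcon)

omit hK hKn [Fintype K] [Fintype G] in
/-- `χ (|χ|² - 2)`. -/
def tauG (χ : G → ℂ) : G → ℂ := fun g => χ g * (χ g * conj (χ g) - 1) - χ g

theorem res_tauG {χ : G → ℂ} (hx : Two (res K χ)) : res K (tauG χ) = tau (res K χ) := by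
  funext k
  show χ k * (χ k * conj (χ k) - 1) - χ k = χ k * (χ k * χ k - 1) - χ k
  have h : conj (χ k) = χ k := hx.real hK k
  rw [h]

theorem tauG_char {χ : G → ℂ} (hχ : IsIrrCharacter G χ) (hx : Two (res K χ)) :
    IsCharacter G (tauG χ) := by
  have hcc : IsCharacter G (χ * fun g => conj (χ g)) :=
    isCharacter_mul (isIrr_isCharacter hχ) (isCharacter_conj (isIrr_isCharacter hχ))
  have h1 : classInner (χ * fun g => conj (χ g)) 1 = 1 := by
    rw [← classInner_irr_self hχ, classInner_def, classInner_def]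
    congr 1
    refine Finset.sum_congr rfl fun g _ => ?_
    simp
  set ψ : G → ℂ := (χ * fun g => conj (χ g)) - 1 with hψ
  have hψc : IsCharacter G ψ := isCharacter_sub_irr hcc isIrr_one (by rw [h1]; exact one_ne_zero)
  have hψK : res K ψ = rho (res K χ) := by
    funext k
    show χ k * conj (χ k) - 1 = χ k * χ k - 1
    have h : conj (χ k) = χ k := hx.real hK k
    rw [h]
  have hψi : IsIrrCharacter G ψ := irr_of_res K hψc (by rw [hψK]; exact rho_irr hK hx)
  have hψr : ∀ g, conj (ψ g) = ψ g := by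
    intro g
    show conj (χ g * conj (χ g) - 1) = χ g * conj (χ g) - 1
    rw [map_sub, map_mul, Complex.conj_conj, map_one, mul_comm]
  have h2 : classInner (χ * ψ) χ = classInner ψ 1 + classInner ψ ψ := by
    have h3 : classInner (χ * ψ) χ = classInner ψ (1 + ψ) := by
      rw [classInner_def, classInner_def]
      congr 1
      refine Finset.sum_congr rfl fun g _ => ?_
      show χ g * ψ g * conj (χ g) = ψ g * conj (1 + ψ g)
      rw [map_add, hψr, map_one]
      show χ g * ψ g * conj (χ g) = ψ g * (1 + (χ g * conj (χ g) - 1))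
      ring
    rw [h3, classInner_add_right]
  obtain ⟨m, hm⟩ := classInner_isNat hψc isCharacter_one
  have h4 : classInner (χ * ψ) χ ≠ 0 := by
    rw [h2, hm, classInner_irr_self hψi]
    exact_mod_cast Nat.succ_ne_zero m
  exact isCharacter_sub_irr (isCharacter_mul (isIrr_isCharacter hχ) hψc) hχ h4

theorem tauG_irr {χ : G → ℂ} (hχ : IsIrrCharacter G χ) (hx : Two (res K χ)) :
    IsIrrCharacter G (tauG χ) ∧ IsIrrCharacter K (res K (tauG χ)) := by
  have h1 : IsIrrCharacter K (res K (tauG χ)) := by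
    rw [res_tauG K hK hx]
    exact tau_irr hK hx
  exact ⟨irr_of_res K (tauG_char K hK hχ hx) h1, h1⟩

theorem prodG_irr {χ χ' : G → ℂ} (hχ : IsIrrCharacter G χ) (hχ' : IsIrrCharacter G χ')
    (hx : Two (res K χ)) (hx' : Two (res K χ')) (hne : res K χ ≠ res K χ') :
    IsIrrCharacter G (χ * χ') ∧ IsIrrCharacter K (res K (χ * χ')) := by
  have h1 : IsIrrCharacter K (res K (χ * χ')) := prod_irr hK hx hx' hne
  exact ⟨irr_of_res K (isCharacter_mul (isIrr_isCharacter hχ) (isIrr_isCharacter hχ')) h1, h1⟩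

omit hK hKn [Fintype K] [Fintype G] in
theorem charDegree_four {χ : G → ℂ} (h : χ 1 = ((4 : ℕ) : ℂ)) : charDegree χ = 4 :=
  Cfsg.Agent.Blocks.Basic.charDegree_of_eq h

/-- **The count.** -/
theorem card_two_le {θ : K → ℂ} (hθ : IsIrrCharacter K θ)
    (hθτ : ∀ χ : IrrCharacter G, Two (res K (χ : G → ℂ)) → tau (res K (χ : G → ℂ)) ≠ θ) :
    Nat.card {χ : IrrCharacter G // charDegree (χ : G → ℂ) = 2 ∧ ¬ KerP K χ} ≤
      2 * Nat.card {χ : IrrCharacter G // charDegree (χ : G → ℂ) = 4 ∧ ¬ OverP K θ χ} := by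
  classical
  have hfin : Finite (IrrCharacter G) := finite_irr
  set D := {χ : IrrCharacter G // charDegree (χ : G → ℂ) = 2 ∧ ¬ KerP K χ} with hD
  set B := {χ : IrrCharacter G // charDegree (χ : G → ℂ) = 4 ∧ ¬ OverP K θ χ} with hB
  rcases isEmpty_or_nonempty D with hemp | ⟨⟨χ₁, hχ₁⟩⟩
  · rw [Nat.card_of_isEmpty]
    exact Nat.zero_le _
  have htwo : ∀ χ : D, Two (res K (χ.1 : G → ℂ)) := fun χ => res_two K hK χ.2.1 χ.2.2
  have h1 : Two (res K (χ₁ : G → ℂ)) := res_two K hK hχ₁.1 hχ₁.2
  -- the two maps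
  have hover : ∀ φ : IrrCharacter G, IsIrrCharacter K (res K (φ : G → ℂ)) →
      res K (φ : G → ℂ) ≠ θ → ¬ OverP K θ φ := by
    intro φ hφ hne hov
    exact hov (classInner_irr_ne hφ hθ hne)
  let ft : D → B := fun χ => ⟨⟨tauG (χ.1 : G → ℂ), (tauG_irr K hK χ.1.2 (htwo χ)).1⟩, by
    refine ⟨?_, hover _ (tauG_irr K hK χ.1.2 (htwo χ)).2 ?_⟩
    · apply charDegree_four
      have h2 := congrFun (res_tauG K hK (htwo χ)) 1
      rw [tau_deg hK (htwo χ)] at h2
      exact h2
    · show res K (tauG (χ.1 : G → ℂ)) ≠ θ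
      rw [res_tauG K hK (htwo χ)]
      exact hθτ χ.1 (htwo χ)⟩
  let fp : ∀ χ : D, res K (χ₁ : G → ℂ) ≠ res K (χ.1 : G → ℂ) →
      res K ((χ₁ : G → ℂ) * (χ.1 : G → ℂ)) ≠ θ → B := fun χ hne hne' =>
    ⟨⟨(χ₁ : G → ℂ) * (χ.1 : G → ℂ), (prodG_irr K hK χ₁.2 χ.1.2 h1 (htwo χ) hne).1⟩, by
      refine ⟨?_, hover _ (prodG_irr K hK χ₁.2 χ.1.2 h1 (htwo χ) hne).2 hne'⟩
      apply charDegree_four
      have h2 := prod_deg hK h1 (htwo χ)
      exact h2⟩
  let F : D → Bool × B := fun χ =>
    if ha : res K (χ₁ : G → ℂ) = res K (χ.1 : G → ℂ) then (true, ft χ) else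
    if hb : res K ((χ₁ : G → ℂ) * (χ.1 : G → ℂ)) = θ then (false, ft χ) else
    (false, fp χ ha hb)
  have hft : ∀ χ χ' : D, res K (χ.1 : G → ℂ) = res K (χ'.1 : G → ℂ) → ft χ = ft χ' → χ = χ' := by
    intro χ χ' hr heq
    apply Subtype.ext
    refine eq_of_twist K (htwo χ).irr hr tauG ?_ (tauG_irr K hK χ.1.2 (htwo χ)).1
      (tauG_irr K hK χ.1.2 (htwo χ)).2 (congrArg (fun b : B => (b.1 : G → ℂ)) heq)
    intro φ β
    funext g
    have hβ : (β g : ℂ) * conj (β g : ℂ) = 1 := by
      have h2 : IsOfFinOrder (β g) := β.isOfFinOrder (isOfFinOrder_of_finite g)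
      have h3 : ‖(β g : ℂ)‖ = 1 := by
        obtain ⟨n, hn, hn1⟩ := isOfFinOrder_iff_pow_eq_one.1 h2
        exact Complex.norm_eq_one_of_pow_eq_one (by
          rw [← Units.val_pow_eq_pow_val, hn1, Units.val_one]) hn.ne'
      rw [Complex.mul_conj, Complex.normSq_eq_norm_sq, h3]
      simp
    show φ g * β g * (φ g * β g * conj (φ g * β g) - 1) - φ g * β g =
      (φ g * (φ g * conj (φ g) - 1) - φ g) * β g
    rw [map_mul]
    linear_combination (φ g * β g * φ g * conj (φ g)) * hβ
  have hfp : ∀ (χ χ' : D) (hne hne' hne2 hne2'), fp χ hne hne' = fp χ' hne2 hne2' → χ = χ' := by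
    intro χ χ' hne hne' hne2 hne2' heq
    have heq' : (χ₁ : G → ℂ) * (χ.1 : G → ℂ) = (χ₁ : G → ℂ) * (χ'.1 : G → ℂ) :=
      congrArg (fun b : B => (b.1 : G → ℂ)) heq
    have hr : res K (χ.1 : G → ℂ) = res K (χ'.1 : G → ℂ) := by
      by_contra hcon
      exact prod_ne hK h1 (htwo χ) (htwo χ') hne hcon (congrArg (res K) heq')
    apply Subtype.ext
    refine eq_of_twist K (htwo χ).irr hr (fun φ => (χ₁ : G → ℂ) * φ) ?_
      (prodG_irr K hK χ₁.2 χ.1.2 h1 (htwo χ) hne).1
      (prodG_irr K hK χ₁.2 χ.1.2 h1 (htwo χ) hne).2 heq'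
    intro φ β
    funext g
    show (χ₁ : G → ℂ) g * (φ g * β g) = (χ₁ : G → ℂ) g * φ g * β g
    ring
  have htp : ∀ (χ χ' : D) (hne hne'), ft χ ≠ fp χ' hne hne' := by
    intro χ χ' hne hne' heq
    have heq' : tauG (χ.1 : G → ℂ) = (χ₁ : G → ℂ) * (χ'.1 : G → ℂ) :=
      congrArg (fun b : B => (b.1 : G → ℂ)) heq
    have h2 := congrArg (res K) heq'
    rw [res_tauG K hK (htwo χ)] at h2
    exact tau_ne_prod hK (htwo χ) h1 (htwo χ') hne h2
  have hF : Function.Injective F := by
    intro χ χ' heq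
    by_cases ha : res K (χ₁ : G → ℂ) = res K (χ.1 : G → ℂ)
    · have e1 : F χ = (true, ft χ) := dif_pos ha
      by_cases ha' : res K (χ₁ : G → ℂ) = res K (χ'.1 : G → ℂ)
      · have e2 : F χ' = (true, ft χ') := dif_pos ha'
        rw [e1, e2] at heq
        exact hft χ χ' (ha.symm.trans ha') (congrArg Prod.snd heq)
      · exfalso
        have e2 : (F χ').1 = false := by
          show (if ha : _ then _ else _ : Bool × B).1 = false
          rw [dif_neg ha']
          split_ifs <;> rfl
        rw [← heq, e1] at e2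
        exact Bool.noConfusion e2
    · by_cases ha' : res K (χ₁ : G → ℂ) = res K (χ'.1 : G → ℂ)
      · exfalso
        have e1 : F χ' = (true, ft χ') := dif_pos ha'
        have e2 : (F χ).1 = false := by
          show (if ha : _ then _ else _ : Bool × B).1 = false
          rw [dif_neg ha]
          split_ifs <;> rfl
        rw [heq, e1] at e2
        exact Bool.noConfusion e2
      · by_cases hb : res K ((χ₁ : G → ℂ) * (χ.1 : G → ℂ)) = θ
        · have e1 : F χ = (false, ft χ) := (dif_neg ha).trans (dif_pos hb)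
          by_cases hb' : res K ((χ₁ : G → ℂ) * (χ'.1 : G → ℂ)) = θ
          · have e2 : F χ' = (false, ft χ') := (dif_neg ha').trans (dif_pos hb')
            rw [e1, e2] at heq
            refine hft χ χ' ?_ (congrArg Prod.snd heq)
            by_contra hcon
            exact prod_ne hK h1 (htwo χ) (htwo χ') ha hcon (hb.trans hb'.symm)
          · have e2 : F χ' = (false, fp χ' ha' hb') := (dif_neg ha').trans (dif_neg hb')
            rw [e1, e2] at heq
            exact (htp χ χ' ha' hb' (congrArg Prod.snd heq)).elim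
        · have e1 : F χ = (false, fp χ ha hb) := (dif_neg ha).trans (dif_neg hb)
          by_cases hb' : res K ((χ₁ : G → ℂ) * (χ'.1 : G → ℂ)) = θ
          · have e2 : F χ' = (false, ft χ') := (dif_neg ha').trans (dif_pos hb')
            rw [e1, e2] at heq
            exact (htp χ' χ ha hb (congrArg Prod.snd heq).symm).elim
          · have e2 : F χ' = (false, fp χ' ha' hb') := (dif_neg ha').trans (dif_neg hb')
            rw [e1, e2] at heq
            exact hfp χ χ' ha hb ha' hb' (congrArg Prod.snd heq)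
  calc Nat.card D ≤ Nat.card (Bool × B) := Nat.card_le_card_of_injective F hF
    _ = 2 * Nat.card B := by rw [Nat.card_prod]; simp

end perfect

end Cfsg.Agent.H595.AvgTwo
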