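import Cfsg.Agent.H685.AcdMain

/-!
# A character over a character of a simple factor of a chief factor (helper595, for S4831)
-/

set_option autoImplicit false
set_option linter.unusedSectionVars false

namespace Cfsg.Agent.H595.AvgTwo

open Cfsg
open scoped ComplexConjugate commutatorElement
open Cfsg.Agent.Characters.Core
open Cfsg.Agent.H685.Acd
open Cfsg.Agent.OddOrderCharacters.NormalInduced (conjFn)
open Cfsg.Agent.OddOrderCharacters.IndRes (res)
open Cfsg.Agent.OddOrderCharacters.PF9.CliffGen (resTo irr_ind ind_inj isCharacter_resTo inertia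
  mem_inertia le_inertia exists_hom_of_ker)
open Cfsg.Agent.H612.MinNormal (cj mem_cj mem_normalizer_iff_cj)

universe u v

/-- The multiplicity in an induced character. -/
theorem inner_ind {G : Type u} [Group G] [Fintype G] (N : Subgroup G) [hN : N.Normal] [Fintype N]
    {θ : N → ℂ} (hθ : IsIrrCharacter N θ) (T : Subgroup G) [Fintype T]
    (hT : ∀ g, g ∈ T ↔ conjFn N θ g = θ) (hNT : N ≤ T) {ψ : T → ℂ} {e : ℂ}
    (hψ : resTo hNT ψ = e • θ) : classInner (res N (indFun T ψ)) θ = e := by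
  classical
  have h4 : res N (indFun T ψ) = (Nat.card T : ℂ)⁻¹ • ∑ x : G, (e • conjFn N θ x⁻¹) := by
    funext n
    show indFun T ψ (n : G) = _
    rw [indFun_apply, Pi.smul_apply, Finset.sum_apply, smul_eq_mul]
    congr 1
    refine Finset.sum_congr rfl fun x _ => ?_
    have h5 : x⁻¹ * (n : G) * x ∈ N := by
      have := hN.conj_mem n n.2 x⁻¹
      simpa using this
    rw [extendByZero_of_mem T ψ (hNT h5)]
    have h6 := congrFun hψ ⟨x⁻¹ * (n : G) * x, h5⟩
    have h7 : resTo hNT ψ ⟨x⁻¹ * (n : G) * x, h5⟩ = ψ ⟨x⁻¹ * (n : G) * x, hNT h5⟩ := rfl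
    rw [← h7, h6]
    show _ * θ _ = _ * θ _
    congr 2
    apply Subtype.ext
    show x⁻¹ * (n : G) * x = x⁻¹ * (n : G) * (x⁻¹)⁻¹
    rw [inv_inv]
  have h5 : ∀ x : G, classInner (e • conjFn N θ x⁻¹) θ = if x ∈ T then e else 0 := by
    intro x
    rw [classInner_smul_left]
    split_ifs with h
    · rw [(hT x⁻¹).1 (T.inv_mem h), classInner_irr_self hθ, mul_one]
    · have h6 : conjFn N θ x⁻¹ ≠ θ := fun h7 => h (by
        have h8 := (hT x⁻¹).2 h7
        simpa using T.inv_mem h8)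
      rw [classInner_irr_ne (Cfsg.Agent.OddOrderCharacters.IndRes.isIrr_conjFn N hθ x⁻¹) hθ
        h6, mul_zero]
  rw [h4, classInner_smul_left, classInner_sum_left, Finset.sum_congr rfl fun x _ => h5 x,
    Finset.sum_ite, Finset.sum_const_zero, add_zero, Finset.sum_const, nsmul_eq_mul,
    Nat.card_eq_fintype_card, Fintype.card_subtype, ← mul_assoc, inv_mul_cancel₀, one_mul]
  rw [← Fintype.card_subtype]
  exact_mod_cast (Fintype.card_pos (α := T)).ne'

/-- See the module docstring. -/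
theorem exists_chi {G Q : Type u} [Group G] [Fintype G] [Group Q] [Finite Q] (f : G →* Q)
    (K : Subgroup G) [hKn : K.Normal] [Fintype K] (M : Subgroup Q)
    (hKM : ∀ k ∈ K, f k ∈ M) (hKM' : ∀ m ∈ M, ∃ k ∈ K, f k = m)
    {S : Subgroup Q} [hsimple : IsSimpleGroup S] (hSna : ¬ IsMulCommutative S) (hSM : S ≤ M)
    (hcj : ∀ g : Q, cj g S = S ∨ cj g S ≤ Subgroup.centralizer (S : Set Q))
    (π : M →* S) (hπ1 : ∀ (m : M) (x : S), (m : Q) * x * (m : Q)⁻¹ = (π m : Q) * x * (π m : Q)⁻¹)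
    (hπ2 : ∀ (m : M) (s : S), (m : Q) = s → π m = s) (α : IrrCharacter S)
    (hα : charDegree (α : S → ℂ) ≠ 1) :
    ∃ (θ : K → ℂ) (χ₀ : G → ℂ) (e : ℕ), IsIrrCharacter K θ ∧ IsIrrCharacter G χ₀ ∧
      classInner (res K χ₀) θ = e ∧ e ≠ 0 ∧ e ^ 2 ≤ (MulAut.conj : S →* MulAut S).range.index ∧
      charDegree θ = charDegree (α : S → ℂ) ∧ ∀ n : K, f n = 1 → θ n = θ 1 := by
  classical
  let fK : K →* M := (f.comp K.subtype).codRestrict M fun k => hKM k k.2
  have hfK : Function.Surjective fK := by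
    intro m
    obtain ⟨k, hk, h⟩ := hKM' m m.2
    exact ⟨⟨k, hk⟩, Subtype.ext h⟩
  have hirrθ : IsIrrCharacter K ((α : S → ℂ) ∘ (π.comp fK)) := isIrr_comp (π.comp fK) (by
    intro s
    obtain ⟨k, hk⟩ := hfK ⟨s, hSM s.2⟩
    refine ⟨k, ?_⟩
    show π (fK k) = s
    rw [hk]
    exact hπ2 _ _ rfl) α.2
  set θ : K → ℂ := (α : S → ℂ) ∘ (π.comp fK) with hθ
  have hθa : ∀ k : K, θ k = (α : S → ℂ) (π (fK k)) := fun k => rfl
  set T : Subgroup G := inertia K θ with hT
  have hmem : ∀ t, t ∈ T ↔ conjFn K θ t = θ := fun t => Iff.rfl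
  have hKT : K ≤ T := le_inertia (isIrr_isClassFunction hirrθ)
  have hθs : ∀ (s : S) (k : G) (h : k ∈ K), f k = s → θ ⟨k, h⟩ = (α : S → ℂ) s := by
    intro s k h hk
    rw [hθa, hπ2 (fK ⟨k, h⟩) s hk]
  have hTel : ∀ t ∈ T, ∀ m : K, θ ⟨t * m * t⁻¹, hKn.conj_mem m m.2 t⟩ = θ m := fun t ht m =>
    congrFun ((hmem t).1 ht) m
  -- `f T` normalizes `S`
  have hTN : ∀ t ∈ T, f t ∈ Subgroup.normalizer (S : Set Q) := by
    intro t ht
    rw [mem_normalizer_iff_cj]
    rcases hcj (f t) with h | h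
    · exact h
    · exfalso
      apply hα
      apply charDegree_eq_one_of_ker α.2
      intro s
      obtain ⟨k, hk, hks⟩ := hKM' s (hSM s.2)
      have h1 := hTel t ht ⟨k, hk⟩
      rw [hθs s k hk hks] at h1
      rw [← h1, hθa]
      refine congrArg (α : S → ℂ) ?_
      apply eq_one_of_central hSna
      intro x
      apply Subtype.ext
      have hft : f (t * k * t⁻¹) = f t * s * (f t)⁻¹ := by
        rw [map_mul, map_mul, map_inv, hks]
      have h2 : f t * s * (f t)⁻¹ ∈ Subgroup.centralizer (S : Set Q) := h ⟨s, s.2, rfl⟩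
      have h3 := Subgroup.mem_centralizer_iff.1 h2 x x.2
      have h4 := hπ1 (fK ⟨t * k * t⁻¹, hKn.conj_mem _ hk t⟩) x
      have h5 : f (t * k * t⁻¹) * x * (f (t * k * t⁻¹))⁻¹ = (x : Q) := by
        rw [hft, ← h3, mul_inv_cancel_right]
      have h6 : (π (fK ⟨t * k * t⁻¹, hKn.conj_mem _ hk t⟩) : Q) * x *
          (π (fK ⟨t * k * t⁻¹, hKn.conj_mem _ hk t⟩) : Q)⁻¹ = x := by
        rw [← h4]
        exact h5
      exact mul_inv_eq_iff_eq_mul.1 h6
  have hTα : ∀ t (h : t ∈ T) (s : S), (α : S → ℂ) ⟨f t * s * (f t)⁻¹,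
      (Subgroup.mem_normalizer_iff.1 (hTN t h) s).1 s.2⟩ = (α : S → ℂ) s := by
    intro t h s
    obtain ⟨k, hk, hks⟩ := hKM' s (hSM s.2)
    have h1 := hTel t h ⟨k, hk⟩
    rw [hθs s k hk hks] at h1
    rw [← h1]
    exact (hθs ⟨f t * s * (f t)⁻¹, (Subgroup.mem_normalizer_iff.1 (hTN t h) s).1 s.2⟩ _
      (hKn.conj_mem _ hk t) (by rw [map_mul, map_mul, map_inv, hks])).symm
  -- the action on `S`
  let c0 : T →* Subgroup.normalizer (S : Set Q) :=
    (f.comp T.subtype).codRestrict _ fun t => hTN t t.2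
  let c : T →* MulAut S := (Subgroup.normalizerMonoidHom S).comp c0
  have hc : ∀ (t : T) (s : S), ((c t s : S) : Q) = f t * s * (f (t : G))⁻¹ := fun t s => rfl
  let B := c.range
  let q : T →* B := c.rangeRestrict
  have hjmem : ∀ s : S, (MulAut.conj s : MulAut S) ∈ B := by
    intro s
    obtain ⟨k, hk, hks⟩ := hKM' s (hSM s.2)
    refine ⟨⟨k, hKT hk⟩, ?_⟩
    ext x
    rw [hc]
    show f k * x * (f k)⁻¹ = (s : Q) * x * (s : Q)⁻¹
    rw [hks]
  let j : S →* B := (MulAut.conj : S →* MulAut S).codRestrict B hjmem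
  have hjv : ∀ s : S, ((j s : B) : MulAut S) = MulAut.conj s := fun s => rfl
  have hjinj : Function.Injective j := by
    intro a b hab
    have h1 : (MulAut.conj a : MulAut S) = MulAut.conj b := by rw [← hjv, ← hjv, hab]
    have h2 : b⁻¹ * a = 1 := by
      apply eq_one_of_central hSna
      intro x
      have h3 : a * x * a⁻¹ = b * x * b⁻¹ := DFunLike.congr_fun h1 x
      calc b⁻¹ * a * x = b⁻¹ * (a * x * a⁻¹) * a := by group
        _ = b⁻¹ * (b * x * b⁻¹) * a := by rw [h3]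
        _ = x * (b⁻¹ * a) := by group
    exact (inv_mul_eq_one.1 h2).symm
  have hconj : ∀ (t : T) (s s' : S), (s' : Q) = f t * s * (f (t : G))⁻¹ →
      q t * j s * (q t)⁻¹ = j s' := by
    intro t s s' hs
    apply Subtype.ext
    ext x
    have hinv : (((c t)⁻¹ : MulAut S) x : Q) = (f (t : G))⁻¹ * x * f t := by
      have h1 : (c t)⁻¹ = c t⁻¹ := (map_inv c t).symm
      rw [h1, hc]
      simp
    show ((c t (s * ((c t)⁻¹ x) * s⁻¹) : S) : Q) = (s' : Q) * x * (s' : Q)⁻¹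
    rw [hc]
    show f (t : G) * ((s : Q) * (((c t)⁻¹ : MulAut S) x : Q) * (s : Q)⁻¹) * (f (t : G))⁻¹ = _
    rw [hinv, hs]
    group
  have hqs : Function.Surjective q := c.rangeRestrict_surjective
  have hjn : j.range.Normal := by
    refine ⟨?_⟩
    rintro _ ⟨s, rfl⟩ b
    obtain ⟨t, rfl⟩ := hqs b
    exact ⟨⟨f (t : G) * s * (f (t : G))⁻¹,
      (Subgroup.mem_normalizer_iff.1 (hTN t t.2) s).1 s.2⟩, (hconj t s _ rfl).symm⟩
  obtain ⟨β, e, hβ, he0, he, hβe⟩ := exists_over_hom j hjinj hjn α.2 (by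
    intro b s s' h
    obtain ⟨t, rfl⟩ := hqs b
    rw [hconj t s ⟨f (t : G) * s * (f (t : G))⁻¹,
      (Subgroup.mem_normalizer_iff.1 (hTN t t.2) s).1 s.2⟩ rfl] at h
    rw [hjinj h]
    exact hTα t t.2 s)
  have hidx : j.range.index ≤ (MulAut.conj : S →* MulAut S).range.index := by
    have h1 : j.range = (MulAut.conj : S →* MulAut S).range.subgroupOf B := by
      ext b
      constructor
      · rintro ⟨s, rfl⟩
        exact ⟨s, (hjv s).symm⟩
      · rintro ⟨s, hs⟩
        exact ⟨s, Subtype.ext ((hjv s).trans hs)⟩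
    rw [h1]
    have h2 := Subgroup.relIndex_le_of_le_right (H := (MulAut.conj : S →* MulAut S).range)
      (K := B) (L := ⊤) le_top (by
        rw [Subgroup.relIndex_top_right]
        exact Subgroup.index_ne_zero_of_finite)
    rwa [Subgroup.relIndex_top_right] at h2
  -- the character of `T`
  have hψ : IsIrrCharacter T (β ∘ q) := isIrr_comp q hqs hβ
  have hres : resTo hKT (β ∘ q) = (e : ℂ) • θ := by
    funext m
    show β (q ⟨m, hKT m.2⟩) = e * (α : S → ℂ) (π (fK m))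
    rw [← hβe]
    congr 1
    apply Subtype.ext
    rw [hjv]
    ext x
    exact hπ1 (fK m) x
  have hTf : Fintype T := Fintype.ofFinite _
  have hee : (e : ℂ) ≠ 0 := by exact_mod_cast he0
  refine ⟨θ, indFun T (β ∘ q), e, hirrθ, ?_, inner_ind K hirrθ T hmem hKT hres, he0,
    he.trans hidx, ?_, ?_⟩
  · exact irr_ind hirrθ hmem hKT hψ (by
      rw [hres, classInner_smul_left, classInner_irr_self hirrθ, mul_one]; exact hee)
  · apply Cfsg.Agent.Blocks.Basic.charDegree_of_eq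
    show (α : S → ℂ) (π (fK 1)) = _
    rw [map_one, map_one, Cfsg.Agent.Blocks.Basic.irr_one_eq_charDegree α.2]
  · intro n hn
    have h1 : fK n = 1 := Subtype.ext hn
    rw [hθa, hθa, h1, map_one, map_one, map_one]

end Cfsg.Agent.H595.AvgTwo
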