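import Cfsg.Agent.H595.AvgTwoG
import Cfsg.Agent.H595.AvgTwoPsi
import Cfsg.Agent.H954.OutLin
import Cfsg.Agent.Blocks.Deflate
import Cfsg.Agent.S0205

/-!
# The case `p = 2` of S4831 (helper595, plan of helper404)

`two_main`: if `O^{2'}(G)` is not solvable, the average degree of the irreducible characters which
are linear or of even degree is at least `5 / 2`.
-/

set_option autoImplicit false
set_option linter.unusedSectionVars false

namespace Cfsg.Agent.H595.AvgTwo

open Cfsg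
open scoped ComplexConjugate
open Cfsg.Agent.Characters.Core
open Cfsg.Agent.OddOrderCharacters.IndRes (res res_apply isCharacter_res)

universe u

section count

variable {G : Type u} [Group G] [Fintype G] (K : Subgroup G) [hKn : K.Normal] [Fintype K]

theorem over_dvd {θ : K → ℂ} (hθ : IsIrrCharacter K θ) {χ : IrrCharacter G} (h : OverP K θ χ) :
    charDegree θ ∣ charDegree (χ : G → ℂ) := by
  classical
  obtain ⟨m, hm⟩ := classInner_isNat (isCharacter_res K (isIrr_isCharacter χ.2))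
    (isIrr_isCharacter hθ)
  have h1 := Cfsg.Agent.CharactersDeep.CliffordSum.restrict_eq_smul_sum K χ.2 hθ h
  have h2 : classInner (fun n : K => (χ : G → ℂ) n) θ = m := hm
  rw [h2] at h1
  have h3 := congrFun h1 1
  have hO1 : ∀ ψ ∈ Finset.univ.image (fun x : G => θ ∘ (MulAut.conjNormal x : MulAut K)),
      ψ 1 = θ 1 := by
    intro ψ hψ
    obtain ⟨x, -, rfl⟩ := Finset.mem_image.1 hψ
    show θ (MulAut.conjNormal x 1) = θ 1
    rw [map_one]
  rw [Pi.smul_apply, Finset.sum_apply, Finset.sum_congr rfl hO1, Finset.sum_const,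
    OneMemClass.coe_one, Cfsg.Agent.Blocks.Basic.irr_one_eq_charDegree χ.2,
    Cfsg.Agent.Blocks.Basic.irr_one_eq_charDegree hθ, nsmul_eq_mul, smul_eq_mul] at h3
  refine ⟨m * (Finset.univ.image (fun x : G => θ ∘ (MulAut.conjNormal x : MulAut K))).card, ?_⟩
  have h4 : ((charDegree (χ : G → ℂ) : ℕ) : ℂ) = ((charDegree θ * (m *
      (Finset.univ.image (fun x : G => θ ∘ (MulAut.conjNormal x : MulAut K))).card) : ℕ) : ℂ) := by
    rw [h3]
    push_cast
    ring
  exact_mod_cast h4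

theorem charDegree_pos (χ : IrrCharacter G) : 0 < charDegree (χ : G → ℂ) := by
  rw [Nat.pos_iff_ne_zero]
  intro h
  have h1 := Cfsg.Agent.Blocks.Basic.irr_one_eq_charDegree χ.2
  rw [h, Nat.cast_zero] at h1
  exact isIrr_apply_one_ne_zero χ.2 h1

theorem kerP_of_linear (hK : ∀ f : K →* ℂˣ, f = 1) {χ : IrrCharacter G}
    (h : charDegree (χ : G → ℂ) = 1) : KerP K χ := by
  intro k hk
  have h1 := eq_one_of_degree_one hK (isCharacter_res K (isIrr_isCharacter χ.2)) (by
    rw [res_apply, OneMemClass.coe_one, Cfsg.Agent.Blocks.Basic.irr_one_eq_charDegree χ.2, h])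
  have h2 := congrFun h1 ⟨k, hk⟩
  have h3 := congrFun h1 1
  rw [res_apply] at h2 h3
  show (χ : G → ℂ) k = (χ : G → ℂ) 1
  rw [show (χ : G → ℂ) k = 1 from h2, show (χ : G → ℂ) 1 = 1 from h3]

open scoped Classical in
theorem count_main (hK : ∀ f : K →* ℂˣ, f = 1) {θ : K → ℂ} (hθ : IsIrrCharacter K θ)
    {χ₀ : G → ℂ} (h₀ : IsIrrCharacter G χ₀) {e : ℕ} (he : classInner (res K χ₀) θ = e)
    (he0 : e ≠ 0) (hb : 3 * e + 5 ≤ 2 * charDegree θ) (h2 : 2 ∣ charDegree θ)
    (hb4 : 4 ≤ charDegree θ)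
    (hθτ : ∀ χ : IrrCharacter G, Two (res K (χ : G → ℂ)) → tau (res K (χ : G → ℂ)) ≠ θ) :
    5 * Nat.card {χ : IrrCharacter G // charDegree (χ : G → ℂ) = 1 ∨ 2 ∣ charDegree (χ : G → ℂ)} ≤
      2 * ∑ᶠ χ : {χ : IrrCharacter G // charDegree (χ : G → ℂ) = 1 ∨ 2 ∣ charDegree (χ : G → ℂ)},
        charDegree (χ.1 : G → ℂ) := by
  have hfin : Finite (IrrCharacter G) := finite_irr
  let _ : Fintype (IrrCharacter G) := Fintype.ofFinite _
  set d : IrrCharacter G → ℕ := fun χ => charDegree (χ : G → ℂ) with hd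
  have hdpos : ∀ χ, 0 < d χ := fun χ => charDegree_pos χ
  set b := charDegree θ with hbdef
  have hov : ∀ χ, OverP K θ χ → b ∣ d χ := fun χ h => over_dvd K hθ h
  have hlin : ∀ χ, d χ = 1 → KerP K χ := fun χ h => kerP_of_linear K hK h
  -- the four counts
  set a : ℤ := ∑ χ : IrrCharacter G, if d χ = 1 then (1 : ℤ) else 0 with ha
  set n0 : ℤ := ∑ χ : IrrCharacter G, if d χ = 2 ∧ KerP K χ then (1 : ℤ) else 0 with hn0
  set n1 : ℤ := ∑ χ : IrrCharacter G, if d χ = 2 ∧ ¬ KerP K χ then (1 : ℤ) else 0 with hn1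
  set nB : ℤ := ∑ χ : IrrCharacter G, if d χ = 4 ∧ ¬ OverP K θ χ then (1 : ℤ) else 0 with hnB
  set A : ℤ := ∑ χ : IrrCharacter G, if OverP K θ χ then (2 * (d χ : ℤ) - 5) else 0 with hA
  have hn0p : 0 ≤ n0 := Finset.sum_nonneg fun χ _ => by split_ifs <;> norm_num
  have hap : 0 ≤ a := Finset.sum_nonneg fun χ _ => by split_ifs <;> norm_num
  have hnBp : 0 ≤ nB := Finset.sum_nonneg fun χ _ => by split_ifs <;> norm_num
  -- inequality (ii)
  have hii : n1 ≤ 2 * nB := by
    have h1 := card_two_le K hK hθ hθτ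
    rw [Nat.card_eq_fintype_card, Nat.card_eq_fintype_card, Fintype.card_subtype,
      Fintype.card_subtype] at h1
    have e1 : n1 = ((Finset.univ.filter fun χ : IrrCharacter G =>
        charDegree (χ : G → ℂ) = 2 ∧ ¬ KerP K χ).card : ℤ) := by
      rw [hn1, Finset.sum_boole]
    have e2 : nB = ((Finset.univ.filter fun χ : IrrCharacter G =>
        charDegree (χ : G → ℂ) = 4 ∧ ¬ OverP K θ χ).card : ℤ) := by
      rw [hnB, Finset.sum_boole]
    rw [e1, e2]
    exact_mod_cast h1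
  -- inequality (i)
  have hi : 3 * (a + 2 * n0) ≤ A := by
    have h1 := star K hθ h₀ he he0
    have h3 : a + 2 * n0 ≤ ((∑ β ∈ Finset.univ.filter (KerP K), charDegree (β : G → ℂ) : ℕ) : ℤ) := by
      rw [ha, hn0, Finset.mul_sum, ← Finset.sum_add_distrib, Finset.sum_filter]
      push_cast
      refine Finset.sum_le_sum fun χ _ => ?_
      have h4 := hdpos χ
      by_cases hk : KerP K χ
      · rw [if_pos hk]
        simp only [hk, and_true]
        show _ ≤ ((d χ : ℕ) : ℤ)
        split_ifs <;> omega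
      · have h5 : d χ ≠ 1 := fun h => hk (hlin χ h)
        rw [if_neg hk, if_neg h5, if_neg (fun h => hk h.2)]
        simp
    have h4 : (2 * (b : ℤ) - 5) * ((∑ χ ∈ Finset.univ.filter (OverP K θ),
        charDegree (χ : G → ℂ) : ℕ) : ℤ) ≤ b * A := by
      rw [hA, Finset.mul_sum, Finset.sum_filter]
      push_cast
      rw [Finset.mul_sum]
      refine Finset.sum_le_sum fun χ _ => ?_
      by_cases hk : OverP K θ χ
      · rw [if_pos hk, if_pos hk]
        have h5 : b ≤ d χ := Nat.le_of_dvd (hdpos χ) (hov χ hk)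
        have h6 : (b : ℤ) ≤ d χ := by exact_mod_cast h5
        show (2 * (b : ℤ) - 5) * (d χ : ℤ) ≤ _
        nlinarith
      · rw [if_neg hk, if_neg hk]
        simp
    have h5 : (b : ℤ) * ((∑ β ∈ Finset.univ.filter (KerP K), charDegree (β : G → ℂ) : ℕ) : ℤ) ≤
        e * ((∑ χ ∈ Finset.univ.filter (OverP K θ), charDegree (χ : G → ℂ) : ℕ) : ℤ) := by
      exact_mod_cast h1
    have hb' : (3 : ℤ) * e + 5 ≤ 2 * b := by exact_mod_cast hb
    have hb4' : (4 : ℤ) ≤ b := by exact_mod_cast hb4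
    have he' : (1 : ℤ) ≤ e := by exact_mod_cast Nat.one_le_iff_ne_zero.2 he0
    set X : ℤ := ((∑ β ∈ Finset.univ.filter (KerP K), charDegree (β : G → ℂ) : ℕ) : ℤ)
    set Y : ℤ := ((∑ χ ∈ Finset.univ.filter (OverP K θ), charDegree (χ : G → ℂ) : ℕ) : ℤ)
    have hX : 0 ≤ X := Int.natCast_nonneg _
    have h6 : (2 * (b : ℤ) - 5) * (b * X) ≤ (2 * (b : ℤ) - 5) * (e * Y) :=
      mul_le_mul_of_nonneg_left h5 (by linarith)
    have h7 : (e : ℤ) * ((2 * (b : ℤ) - 5) * Y) ≤ e * (b * A) :=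
      mul_le_mul_of_nonneg_left h4 (by linarith)
    have h8 : 3 * (e : ℤ) * (b * X) ≤ (2 * (b : ℤ) - 5) * (b * X) :=
      mul_le_mul_of_nonneg_right (by linarith) (by positivity)
    have h9 : (e * b : ℤ) * (3 * X) ≤ (e * b : ℤ) * A := by nlinarith
    have h10 : 3 * X ≤ A := le_of_mul_le_mul_left h9 (by positivity)
    linarith
  -- the pointwise inequality
  have key : ∀ χ : IrrCharacter G, (-3) * (if d χ = 1 then (1 : ℤ) else 0) -
      (if d χ = 2 ∧ KerP K χ then (1 : ℤ) else 0) - (if d χ = 2 ∧ ¬ KerP K χ then (1 : ℤ) else 0) +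
      (if OverP K θ χ then (2 * (d χ : ℤ) - 5) else 0) +
      3 * (if d χ = 4 ∧ ¬ OverP K θ χ then (1 : ℤ) else 0) ≤
      if d χ = 1 ∨ 2 ∣ d χ then 2 * (d χ : ℤ) - 5 else 0 := by
    intro χ
    have h3 := hdpos χ
    by_cases ho : OverP K θ χ
    · have h4 := hov χ ho
      have h5 : b ≤ d χ := Nat.le_of_dvd (hdpos χ) h4
      have h6 : 2 ∣ d χ := h2.trans h4
      rw [if_neg (by omega), if_neg (by omega), if_neg (by omega), if_pos ho,
        if_neg (fun h => h.2 ho), if_pos (Or.inr h6)]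
      simp
    · rw [if_neg ho]
      by_cases h4 : d χ = 1
      · rw [if_pos h4, if_neg (by omega), if_neg (by omega), if_neg (by omega),
          if_pos (Or.inl h4), h4]
        norm_num
      · rw [if_neg h4]
        by_cases h5 : d χ = 2
        · rw [if_neg (by omega : ¬ (d χ = 4 ∧ ¬ OverP K θ χ)),
            if_pos (Or.inr (by omega) : d χ = 1 ∨ 2 ∣ d χ), h5]
          by_cases hk : KerP K χ
          · simp [hk]
          · simp [hk]
        · rw [if_neg (by omega), if_neg (by omega)]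
          by_cases h6 : d χ = 4
          · rw [if_pos ⟨h6, ho⟩, if_pos (Or.inr (by omega)), h6]
            norm_num
          · rw [if_neg (by omega)]
            split_ifs with h7
            · have : 4 ≤ d χ := by omega
              have h8 : (4 : ℤ) ≤ d χ := by exact_mod_cast this
              linarith
            · norm_num
  have hsum := Finset.sum_le_sum fun (χ : IrrCharacter G) (_ : χ ∈ Finset.univ) => key χ
  rw [Finset.sum_add_distrib, Finset.sum_add_distrib, Finset.sum_sub_distrib,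
    Finset.sum_sub_distrib, ← Finset.mul_sum, ← Finset.mul_sum] at hsum
  -- the two sides
  have e1 : (∑ χ : IrrCharacter G, if d χ = 1 ∨ 2 ∣ d χ then 2 * (d χ : ℤ) - 5 else 0) =
      2 * ((∑ᶠ χ : {χ : IrrCharacter G // charDegree (χ : G → ℂ) = 1 ∨
        2 ∣ charDegree (χ : G → ℂ)}, charDegree (χ.1 : G → ℂ) : ℕ) : ℤ) -
      5 * (Nat.card {χ : IrrCharacter G // charDegree (χ : G → ℂ) = 1 ∨
        2 ∣ charDegree (χ : G → ℂ)} : ℤ) := by
    rw [← Finset.sum_filter, Finset.sum_sub_distrib, ← Finset.mul_sum, Finset.sum_const,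
      finsum_eq_sum_of_fintype, Nat.card_eq_fintype_card, Fintype.card_subtype]
    have e2 : (∑ χ : {χ : IrrCharacter G // charDegree (χ : G → ℂ) = 1 ∨
        2 ∣ charDegree (χ : G → ℂ)}, charDegree (χ.1 : G → ℂ)) =
        ∑ χ ∈ Finset.univ.filter (fun χ : IrrCharacter G => d χ = 1 ∨ 2 ∣ d χ), d χ := by
      rw [← Finset.sum_subtype_eq_sum_filter, Finset.subtype_univ]
    rw [e2]
    push_cast
    rw [nsmul_eq_mul]
    ring
  rw [e1] at hsum
  have hfinal : 0 ≤ 2 * ((∑ᶠ χ : {χ : IrrCharacter G // charDegree (χ : G → ℂ) = 1 ∨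
        2 ∣ charDegree (χ : G → ℂ)}, charDegree (χ.1 : G → ℂ) : ℕ) : ℤ) -
      5 * (Nat.card {χ : IrrCharacter G // charDegree (χ : G → ℂ) = 1 ∨
        2 ∣ charDegree (χ : G → ℂ)} : ℤ) := by
    refine le_trans ?_ hsum
    show 0 ≤ (-3) * a - n0 - n1 + A + 3 * nB
    linarith
  have : (5 * (Nat.card {χ : IrrCharacter G // charDegree (χ : G → ℂ) = 1 ∨
        2 ∣ charDegree (χ : G → ℂ)} : ℤ)) ≤ 2 * ((∑ᶠ χ : {χ : IrrCharacter G //
        charDegree (χ : G → ℂ) = 1 ∨ 2 ∣ charDegree (χ : G → ℂ)},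
        charDegree (χ.1 : G → ℂ) : ℕ) : ℤ) := by linarith
  exact_mod_cast this

end count

/-- A nonsolvable finite group has a nontrivial perfect normal subgroup. -/
theorem exists_perfect {G : Type u} [Group G] [Finite G] (h : ¬ Group.IsSolvable G) :
    ∃ K : Subgroup G, K.Normal ∧ K ≠ ⊥ ∧ ⁅K, K⁆ = K := by
  classical
  obtain ⟨n, hn⟩ : ∃ n, ∀ m, Nat.card (derivedSeries G n) ≤ Nat.card (derivedSeries G m) := by
    have h1 : (Set.range fun n => Nat.card (derivedSeries G n)).Nonempty := ⟨_, 0, rfl⟩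
    obtain ⟨n, hn⟩ := Nat.sInf_mem h1
    exact ⟨n, fun m => by
      have h2 : sInf (Set.range fun n => Nat.card (derivedSeries G n)) ≤
        Nat.card (derivedSeries G m) := Nat.sInf_le ⟨m, rfl⟩
      have h3 : Nat.card (derivedSeries G n) =
        sInf (Set.range fun n => Nat.card (derivedSeries G n)) := hn
      rw [h3]
      exact h2⟩
  refine ⟨derivedSeries G n, inferInstance, ?_, ?_⟩
  · intro h0
    exact h ⟨⟨n, h0⟩⟩
  · have h1 : derivedSeries G (n + 1) ≤ derivedSeries G n := by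
      rw [derivedSeries_succ]
      exact Subgroup.commutator_le_left _ _
    have h2 : derivedSeries G (n + 1) = derivedSeries G n :=
      Subgroup.eq_of_le_of_card_ge h1 (hn (n + 1))
    rw [derivedSeries_succ] at h2
    exact h2

/-- A maximal normal subgroup of `G` properly contained in `K`. -/
theorem exists_max {G : Type u} [Group G] [Finite G] (K : Subgroup G) (hK0 : K ≠ ⊥) : ∃ N : Subgroup G, N.Normal ∧ N < K ∧
      ∀ L : Subgroup G, L.Normal → N ≤ L → L < K → L = N := by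
  have hne : ({L : Subgroup G | L.Normal ∧ L < K}).Nonempty :=
    ⟨⊥, inferInstance, bot_lt_iff_ne_bot.2 hK0⟩
  obtain ⟨N, hN⟩ := (Set.toFinite {L : Subgroup G | L.Normal ∧ L < K}).exists_maximal hne
  exact ⟨N, hN.1.1, hN.1.2, fun L hL hNL hLK => le_antisymm (hN.2 ⟨hL, hLK⟩ hNL) hNL⟩

theorem two_dvd {S : Type u} [Group S] [Finite S] [IsSimpleGroup S] (hna : ¬ IsMulCommutative S) :
    2 ∣ Nat.card S := by
  by_contra h
  have hodd : Odd (Nat.card S) := by
    rw [← Nat.not_even_iff_odd, even_iff_two_dvd]; exact h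
  have h1 := Cfsg.Agent.S0205.result hodd
  apply hna
  refine ⟨⟨fun a b => ?_⟩⟩
  exact (IsSimpleGroup.comm_iff_isSolvable.2 h1) a b

/-- A homomorphism from a perfect group to `ℂˣ` is trivial. -/
theorem hom_eq_one_of_perfect {G : Type u} [Group G] (K : Subgroup G) (h : ⁅K, K⁆ = K)
    (f : K →* ℂˣ) : f = 1 := by
  have h1 : commutator K = ⊤ := by
    apply Subgroup.map_injective K.subtype_injective
    rw [← MonoidHom.range_eq_map, Subgroup.range_subtype, Subgroup.map_subtype_commutator, h]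
  ext k
  have h2 : commutator K ≤ f.ker := Abelianization.commutator_subset_ker f
  rw [h1] at h2
  have h3 : f k = 1 := h2 (Subgroup.mem_top k)
  rw [h3]
  rfl

/-- No irreducible character of `G` restricts to `K` as an irreducible character of degree two with
`N` in the kernel. -/
theorem no_two {G : Type u} [Group G] [Fintype G] (K N : Subgroup G) [hKn : K.Normal]
    [hNn : N.Normal] [Fintype K] (hNK : N < K)
    (hNmax : ∀ L : Subgroup G, L.Normal → N ≤ L → L < K → L = N)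
    {S : Subgroup (G ⧸ N)} [hs : IsSimpleGroup S] (hSna : ¬ IsMulCommutative S)
    (hSM : S ≤ K.map (QuotientGroup.mk' N)) {χ : IrrCharacter G}
    (hx : Two (res K (χ : G → ℂ))) (hker : ∀ n ∈ N, (χ : G → ℂ) n = 2) : False := by
  classical
  have := Fintype.ofFinite N
  have := Fintype.ofFinite S
  have := Fintype.ofFinite (G ⧸ N)
  have hχ1 : (χ : G → ℂ) 1 = 2 := hx.deg
  obtain ⟨χ', hχ'⟩ := Cfsg.Agent.Blocks.Deflate.exists_deflation N (χ : G → ℂ) χ.2 (by
    rw [Finset.sum_congr rfl fun (n : N) _ => hker (n : G) n.2, Finset.sum_const, nsmul_eq_mul]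
    refine mul_ne_zero ?_ two_ne_zero
    rw [Finset.card_univ]
    exact_mod_cast (Fintype.card_pos (α := N)).ne')
  have hχ'1 : (χ' : G ⧸ N → ℂ) 1 = 2 := by
    rw [← hχ1, hχ']
    rfl
  have hSna' : ¬ ∀ a b : S, a * b = b * a := fun h => hSna ⟨⟨h⟩⟩
  have hSp : ∀ f : S →* ℂˣ, f = 1 := fun f =>
    Cfsg.Agent.H681.SimpleChar.hom_eq_one hSna' f
  have hc : IsCharacter S (res S (χ' : G ⧸ N → ℂ)) :=
    isCharacter_res S (isIrr_isCharacter χ'.2)
  have hc1 : res S (χ' : G ⧸ N → ℂ) 1 = ((2 : ℕ) : ℂ) := by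
    rw [res_apply, OneMemClass.coe_one, hχ'1]
    rfl
  by_cases h1 : classInner (res S (χ' : G ⧸ N → ℂ)) 1 = 0
  · have h2 := irr_two hSp hc hc1 h1
    exact Cfsg.Agent.H681.SimpleChar.degree_ne_two hSna'
      (Cfsg.Agent.H681.DegBasic.mem_charDegrees.2 ⟨_, h2, hc1⟩)
  · have h3 := Cfsg.Agent.OddOrderCharacters.Clifford.isCharacter_sub_irr hc isIrr_one h1
    have h4 := eq_one_of_degree_one hSp h3 (by
      rw [Pi.sub_apply, hc1]
      push_cast
      norm_num)
    have h5 : ∀ s : S, (χ' : G ⧸ N → ℂ) s = 2 := by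
      intro s
      have h6 := congrFun h4 s
      rw [Pi.sub_apply, res_apply] at h6
      have h7 : (χ' : G ⧸ N → ℂ) s = 1 + 1 := by
        have h8 : (χ' : G ⧸ N → ℂ) s - 1 = 1 := h6
        linear_combination h8
      rw [h7]
      norm_num
    -- the kernel
    obtain ⟨n, ρ, hρ, hρχ⟩ := χ'.2
    have hfin : ρ.character 1 = (Module.finrank ℂ (Fin n → ℂ) : ℂ) := Representation.char_one ρ
    have hkr : ∀ y, y ∈ (ρ : (G ⧸ N) →* _).ker ↔ (χ' : G ⧸ N → ℂ) y = 2 := by
      intro y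
      have h6 := Cfsg.Agent.Characters.Values.character_eq_finrank_iff ρ y
      rw [← hfin, hρχ, hχ'1] at h6
      rw [MonoidHom.mem_ker]
      exact h6.symm
    have hSker : S ≤ (ρ : (G ⧸ N) →* _).ker := fun s hs => (hkr s).2 (h5 ⟨s, hs⟩)
    -- the kernel contains `K`
    obtain ⟨L, hL⟩ : ∃ L : Subgroup G, L =
      K ⊓ ((ρ : (G ⧸ N) →* _).ker).comap (QuotientGroup.mk' N) := ⟨_, rfl⟩
    have hLn : L.Normal := by rw [hL]; infer_instance
    have hNL : N ≤ L := by
      rw [hL]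
      refine le_inf hNK.le ?_
      intro y hy
      rw [Subgroup.mem_comap]
      have h6 : QuotientGroup.mk' N y = 1 := (QuotientGroup.eq_one_iff y).2 hy
      rw [h6]
      exact one_mem _
    have hLK : L = K := by
      by_contra hcon
      have h6 := hNmax L hLn hNL (lt_of_le_of_ne (hL ▸ inf_le_left) hcon)
      -- then `S` is trivial
      apply hSna
      have h7 : ∀ s : S, s = 1 := by
        intro s
        obtain ⟨k, hk, hks⟩ := hSM s.2
        have h8 : k ∈ L := hL ▸ ⟨hk, Subgroup.mem_comap.2 (by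
          rw [hks]
          exact hSker s.2)⟩
        rw [h6] at h8
        apply Subtype.ext
        rw [← hks]
        exact (QuotientGroup.eq_one_iff k).2 h8
      exact ⟨⟨fun a b => by rw [h7 a, h7 b]⟩⟩
    have h8 : res K (χ : G → ℂ) = (2 : ℂ) • (1 : K → ℂ) := by
      funext k
      have h9 : (k : G) ∈ L := by rw [hLK]; exact k.2
      rw [hL] at h9
      have h10 := (hkr _).1 h9.2
      show (χ : G → ℂ) k = 2 * 1
      rw [hχ', mul_one]
      exact h10
    have h9 : classInner (res K (χ : G → ℂ)) 1 = 2 := by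
      rw [h8, classInner_smul_left, classInner_irr_self isIrr_one, mul_one]
    rw [classInner_irr_ne hx.irr isIrr_one hx.ne_one] at h9
    norm_num at h9

/-- **The case `p = 2` of S4831.** -/
theorem two_main {G : Type u} [Group G] [Finite G] (hIM : Cfsg.Agent.H685.Acd.IMp.{u} 2)
    (hOL : ∀ (S : Type u) [Group S] [Finite S] [IsSimpleGroup S], ¬ IsMulCommutative S →
      Cfsg.Agent.H954.OutDeg.OL S)
    (hns : ¬ Group.IsSolvable ↥(Subgroup.closure {g : G | ∃ k : ℕ, orderOf g = 2 ^ k})) :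
    5 * Nat.card {χ : IrrCharacter G // charDegree (χ : G → ℂ) = 1 ∨ 2 ∣ charDegree (χ : G → ℂ)} ≤
      2 * ∑ᶠ χ : {χ : IrrCharacter G // charDegree (χ : G → ℂ) = 1 ∨ 2 ∣ charDegree (χ : G → ℂ)},
        charDegree (χ.1 : G → ℂ) := by
  classical
  have := Fintype.ofFinite G
  have hG : ¬ Group.IsSolvable G := fun h => hns inferInstance
  obtain ⟨K, hKn, hK0, hKp⟩ := exists_perfect hG
  obtain ⟨N, hNn, hNK, hNmax⟩ := exists_max K hK0
  have := Fintype.ofFinite K
  set f : G →* G ⧸ N := QuotientGroup.mk' N with hf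
  set M : Subgroup (G ⧸ N) := K.map f with hM
  have hMn : M.Normal := hKn.map f (QuotientGroup.mk'_surjective N)
  have hfker : ∀ y, f y = 1 ↔ y ∈ N := fun y => QuotientGroup.eq_one_iff y
  have hM0 : M ≠ ⊥ := by
    intro h
    apply hNK.not_ge
    intro k hk
    have h1 : f k ∈ M := ⟨k, hk, rfl⟩
    rw [h, Subgroup.mem_bot] at h1
    exact (hfker k).1 h1
  have hmin : ∀ L : Subgroup (G ⧸ N), L.Normal → L ≤ M → L = ⊥ ∨ L = M := by
    intro L hL hLM
    have hLn : (L.comap f).Normal := hL.comap f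
    have hNL : N ≤ L.comap f := by
      intro y hy
      rw [Subgroup.mem_comap, (hfker y).2 hy]
      exact one_mem _
    have hLK : L.comap f ≤ K := by
      intro y hy
      obtain ⟨k, hk, hky⟩ := hLM hy
      have h1 : k⁻¹ * y ∈ N := by
        rw [← hfker, map_mul, map_inv, hky, inv_mul_cancel]
      have h2 : y = k * (k⁻¹ * y) := by group
      rw [h2]
      exact K.mul_mem hk (hNK.le h1)
    have hmc : (L.comap f).map f = L := Subgroup.map_comap_eq_self_of_surjective
      (QuotientGroup.mk'_surjective N) L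
    rcases eq_or_lt_of_le hLK with h | h
    · right
      rw [← hmc, h]
    · left
      rw [eq_bot_iff]
      intro y hy
      obtain ⟨k, rfl⟩ := QuotientGroup.mk'_surjective N y
      have h1 := hNmax _ hLn hNL h
      have h2 : k ∈ L.comap f := hy
      rw [h1] at h2
      exact (hfker k).2 h2
  have hna : ¬ ∀ a ∈ M, ∀ b ∈ M, a * b = b * a := by
    intro h
    apply hNK.not_ge
    rw [← hKp, Subgroup.commutator_le]
    intro a ha b hb
    rw [← hfker, commutatorElement_def, map_mul, map_mul, map_mul, map_inv, map_inv,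
      h (f a) ⟨a, ha, rfl⟩ (f b) ⟨b, hb, rfl⟩]
    group
  obtain ⟨S, hSM, hMN, hsimple, hSna, hMS, hcj⟩ :=
    Cfsg.Agent.H612.MinNormal.exists_factor M hM0 hmin hna
  obtain ⟨π, hπ1, hπ2⟩ := Cfsg.Agent.H685.Acd.exists_proj hMS
    (fun z hz => Cfsg.Agent.H685.Acd.eq_one_of_central hSna hz)
  obtain ⟨α, hα⟩ := hIM S hSna (two_dvd hSna)
  have hα1 : charDegree (α : S → ℂ) ≠ 1 := by
    intro h
    rw [h] at hα
    norm_num at hα
  have hα2 : charDegree (α : S → ℂ) ≠ 2 := by
    intro h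
    exact Cfsg.Agent.H681.SimpleChar.degree_ne_two (fun h => hSna ⟨⟨h⟩⟩) ⟨α, h⟩
  have hα0 : charDegree (α : S → ℂ) ≠ 0 := by
    intro h
    have h1 := Cfsg.Agent.Blocks.Basic.irr_one_eq_charDegree α.2
    rw [h, Nat.cast_zero] at h1
    exact isIrr_apply_one_ne_zero α.2 h1
  have hα4 : 4 ≤ charDegree (α : S → ℂ) := by omega
  obtain ⟨θ, χ₀, e, hθ, h₀, he, he0, hee, hdθ, hθN⟩ := exists_chi f K M
    (fun k hk => ⟨k, hk, rfl⟩) (fun m hm => by
      obtain ⟨k, hk, h⟩ := hm
      exact ⟨k, hk, h⟩) hSna hSM hcj π hπ1 hπ2 α hα1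
  have hout : (MulAut.conj : S →* MulAut S).range.index < charDegree (α : S → ℂ) :=
    hOL S hSna α hα1
  have he2 : e ^ 2 < charDegree θ := by
    rw [hdθ]
    exact lt_of_le_of_lt hee hout
  refine count_main K (hom_eq_one_of_perfect K hKp) hθ h₀ he he0 ?_ (by rw [hdθ]; exact hα)
    (by rw [hdθ]; exact hα4) ?_
  · rw [← hdθ] at hα4 hα
    rcases Nat.lt_or_ge e 3 with h | h
    · interval_cases e
      · omega
      · omega
      · have h5 : 2 ^ 2 < charDegree θ := he2
        omega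
    · nlinarith
  · intro χ hx hτ
    refine no_two K N hNK hNmax hSna hSM hx fun n hn => ?_
    have hnK : n ∈ K := hNK.le hn
    have h1 : θ ⟨n, hnK⟩ = θ 1 := hθN ⟨n, hnK⟩ ((hfker n).2 hn)
    rw [← hτ, tau_deg (hom_eq_one_of_perfect K hKp) hx] at h1
    have hr := hx.real (hom_eq_one_of_perfect K hKp) ⟨n, hnK⟩
    obtain ⟨r, hr'⟩ : ∃ r : ℝ, (χ : G → ℂ) n = r := ⟨_, (Complex.conj_eq_iff_re.1 hr).symm⟩
    have h2 : (r : ℂ) * (r * r - 1) - r = 4 := by
      rw [← hr']
      have h3 : tau (res K (χ : G → ℂ)) ⟨n, hnK⟩ = (χ : G → ℂ) n *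
        ((χ : G → ℂ) n * (χ : G → ℂ) n - 1) - (χ : G → ℂ) n := rfl
      rw [← h3, h1]
      norm_num
    have h3 : r * (r * r - 1) - r = 4 := by exact_mod_cast h2
    have h4 : (r - 2) * (r ^ 2 + 2 * r + 2) = 0 := by linear_combination h3
    have h5 : r = 2 := by
      rcases mul_eq_zero.1 h4 with h | h
      · linarith
      · nlinarith [sq_nonneg (r + 1)]
    rw [hr', h5]
    norm_num

end Cfsg.Agent.H595.AvgTwo
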