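import Cfsg.Agent.OddOrderCharacters.PF9.CliffGen
import Cfsg.Agent.H681.SimpleChar

/-!
# Irreducible characters of degree two of a perfect group (helper595, for S4831)

For `x` irreducible of degree two of a perfect group `K`: `x` is real, `x (g²) = x(g)² - 2`,
`x² - 1` and `x³ - 2 x` are irreducible; for `x ≠ y` of degree two `x y` is irreducible.
-/

set_option autoImplicit false
set_option linter.unusedSectionVars false

namespace Cfsg.Agent.H595.AvgTwo

open Cfsg
open scoped ComplexConjugate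
open Cfsg.Agent.Characters.Core
open Cfsg.Agent.OddOrderCharacters.Clifford (isCharacter_sub_irr)

universe u

/-- The average of a function. -/
noncomputable def av {K : Type u} [Fintype K] (f : K → ℂ) : ℂ := (Nat.card K : ℂ)⁻¹ * ∑ g, f g

section av

variable {K : Type u} [Group K] [Fintype K]

theorem av_add (f g : K → ℂ) : av (f + g) = av f + av g := by
  unfold av
  rw [← mul_add, ← Finset.sum_add_distrib]
  rfl

theorem av_sub (f g : K → ℂ) : av (f - g) = av f - av g := by
  unfold av
  rw [← mul_sub, ← Finset.sum_sub_distrib]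
  rfl

theorem av_smul (c : ℂ) (f : K → ℂ) : av (c • f) = c * av f := by
  unfold av
  have h : ∑ g, (c • f) g = c * ∑ g, f g := by
    rw [Finset.mul_sum]
    rfl
  rw [h]
  ring

theorem av_one : av (1 : K → ℂ) = 1 := by
  unfold av
  have h : ∑ g : K, (1 : K → ℂ) g = (Nat.card K : ℂ) := by
    simp [Nat.card_eq_fintype_card]
  rw [h, inv_mul_cancel₀ card_ne_zero_complex]

/-- Inner products with real functions are averages. -/
theorem inner_eq_av {f y : K → ℂ} (hy : ∀ g, conj (y g) = y g) : classInner f y = av (f * y) := by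
  rw [classInner_def]
  unfold av
  congr 1
  refine Finset.sum_congr rfl fun g _ => ?_
  rw [hy, Pi.mul_apply]

end av

section K

variable {K : Type u} [Group K] [Fintype K]

theorem eq_zero_of_apply_one {ψ : K → ℂ} (hψ : IsCharacter K ψ) (h : ψ 1 = 0) : ψ = 0 := by
  funext y
  have h1 := Cfsg.Agent.OddOrderCharacters.PF9.CliffGen.norm_le_re hψ y
  rw [h, Complex.zero_re] at h1
  exact norm_le_zero_iff.1 h1

variable (hK : ∀ f : K →* ℂˣ, f = 1)

include hK

theorem eq_one_of_irr_degree_one {η : K → ℂ} (hη : IsIrrCharacter K η) (h1 : η 1 = 1) :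
    η = 1 := by
  obtain ⟨f, hf⟩ := Cfsg.Agent.Characters.Linear.exists_hom_of_isIrrCharacter hη h1
  rw [hf, hK f]
  rfl

/-- Split off an irreducible constituent of degree at least two. -/
theorem split {ψ : K → ℂ} (hψ : IsCharacter K ψ) {n : ℕ} (hn : ψ 1 = n) (hn0 : n ≠ 0)
    (h1 : classInner ψ 1 = 0) :
    ∃ (η : K → ℂ) (a b : ℕ), IsIrrCharacter K η ∧ 2 ≤ a ∧ a + b = n ∧ η 1 = a ∧
      IsCharacter K (ψ - η) ∧ (ψ - η) 1 = b ∧ classInner (ψ - η) 1 = 0 ∧
      classInner ψ η ≠ 0 := by
  have hne : ψ ≠ 0 := by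
    rintro rfl
    apply hn0
    have : ((n : ℕ) : ℂ) = 0 := by rw [← hn]; rfl
    exact_mod_cast this
  obtain ⟨η, hη, h2⟩ := Cfsg.Agent.OddOrderCharacters.PF4Type.exists_irr_constituent hψ hne
  obtain ⟨a, ha0, ha⟩ := isIrr_apply_one hη
  have h3 := isCharacter_sub_irr hψ hη h2
  obtain ⟨b, hb⟩ := isCharacter_apply_one h3
  have hη1 : η ≠ 1 := by
    rintro rfl
    exact h2 h1
  refine ⟨η, a, b, hη, ?_, ?_, ha, h3, hb, ?_, h2⟩
  · by_contra hcon
    have ha1 : a = 1 := by omega
    apply hη1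
    exact eq_one_of_irr_degree_one hK hη (by rw [ha, ha1, Nat.cast_one])
  · rw [Pi.sub_apply, hn, ha] at hb
    have : ((a + b : ℕ) : ℂ) = ((n : ℕ) : ℂ) := by
      push_cast
      rw [← hb]
      ring
    exact_mod_cast this
  · rw [classInner_sub_left, h1, classInner_irr_ne hη isIrr_one hη1, sub_zero]

theorem not_degree_one {ψ : K → ℂ} (hψ : IsCharacter K ψ) (hn : ψ 1 = ((1 : ℕ) : ℂ))
    (h1 : classInner ψ 1 = 0) : False := by
  obtain ⟨η, a, b, -, h2, h3, -⟩ := split hK hψ hn one_ne_zero h1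
  omega

/-- A character of degree one is trivial. -/
theorem eq_one_of_degree_one {ψ : K → ℂ} (hψ : IsCharacter K ψ) (hn : ψ 1 = ((1 : ℕ) : ℂ)) :
    ψ = 1 := by
  by_cases h1 : classInner ψ 1 = 0
  · exact (not_degree_one hK hψ hn h1).elim
  · have h3 := isCharacter_sub_irr hψ isIrr_one h1
    have h4 := eq_zero_of_apply_one h3 (by rw [Pi.sub_apply, hn]; simp)
    rwa [sub_eq_zero] at h4

theorem irr_two {ψ : K → ℂ} (hψ : IsCharacter K ψ) (hn : ψ 1 = ((2 : ℕ) : ℂ))
    (h1 : classInner ψ 1 = 0) : IsIrrCharacter K ψ := by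
  obtain ⟨η, a, b, hη, h2, h3, ha, hc, hb, -, -⟩ := split hK hψ hn two_ne_zero h1
  have hb0 : b = 0 := by omega
  have h4 := eq_zero_of_apply_one hc (by rw [hb, hb0, Nat.cast_zero])
  rw [sub_eq_zero] at h4
  rwa [h4]

theorem irr_three {ψ : K → ℂ} (hψ : IsCharacter K ψ) (hn : ψ 1 = ((3 : ℕ) : ℂ))
    (h1 : classInner ψ 1 = 0) : IsIrrCharacter K ψ := by
  obtain ⟨η, a, b, hη, h2, h3, ha, hc, hb, h5, -⟩ := split hK hψ hn three_ne_zero h1
  have hb0 : b = 0 ∨ b = 1 := by omega
  rcases hb0 with hb0 | hb0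
  · have h4 := eq_zero_of_apply_one hc (by rw [hb, hb0, Nat.cast_zero])
    rw [sub_eq_zero] at h4
    rwa [h4]
  · rw [hb0] at hb
    exact (not_degree_one hK hc hb h5).elim

theorem irr_four {ψ : K → ℂ} (hψ : IsCharacter K ψ) (hn : ψ 1 = ((4 : ℕ) : ℂ))
    (h1 : classInner ψ 1 = 0) : IsIrrCharacter K ψ ∨ ∃ η κ : K → ℂ, IsIrrCharacter K η ∧
      IsIrrCharacter K κ ∧ η 1 = 2 ∧ κ 1 = 2 ∧ ψ = η + κ := by
  obtain ⟨η, a, b, hη, h2, h3, ha, hc, hb, h5, -⟩ := split hK hψ hn four_ne_zero h1
  have hb0 : b = 0 ∨ b = 1 ∨ b = 2 := by omega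
  rcases hb0 with hb0 | hb0 | hb0
  · have h4 := eq_zero_of_apply_one hc (by rw [hb, hb0, Nat.cast_zero])
    rw [sub_eq_zero] at h4
    left
    rwa [h4]
  · rw [hb0] at hb
    exact (not_degree_one hK hc hb h5).elim
  · right
    have ha2 : a = 2 := by omega
    rw [hb0] at hb
    refine ⟨η, ψ - η, hη, irr_two hK hc hb h5, by rw [ha, ha2]; rfl, hb, by abel⟩

/-- Characters of degree two are real and have determinant one. -/
theorem two_real {x : K → ℂ} (hx : IsIrrCharacter K x) (h2 : x 1 = 2) :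
    (∀ g, conj (x g) = x g) ∧ ∀ g, x (g * g) = x g ^ 2 - 2 := by
  have hinv : ∀ g, x g⁻¹ = conj (x g) := fun g => isCharacter_apply_inv (isIrr_isCharacter hx) g
  obtain ⟨n, ρ, hρ, rfl⟩ := hx
  have hn : n = 2 := by
    rw [Representation.char_one] at h2
    have : Module.finrank ℂ (Fin n → ℂ) = 2 := by exact_mod_cast h2
    simpa using this
  subst hn
  let A : K → Matrix (Fin 2) (Fin 2) ℂ := fun g => LinearMap.toMatrix' (ρ g)
  have hA1 : ∀ g h, A (g * h) = A g * A h := by
    intro g h
    show LinearMap.toMatrix' (ρ (g * h)) = _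
    rw [map_mul, Module.End.mul_eq_comp, LinearMap.toMatrix'_comp]
  have hAd : ∀ g, (A g).det = 1 := by
    intro g
    have h3 := DFunLike.congr_fun (hK (Cfsg.Agent.CharDeep.Twist.detHom ρ)) g
    have h4 := Cfsg.Agent.CharDeep.Twist.detHom_apply ρ g
    show (LinearMap.toMatrix' (ρ g)).det = 1
    rw [LinearMap.det_toMatrix', ← h4, h3]
    rfl
  have hAt : ∀ g, ρ.character g = (A g) 0 0 + (A g) 1 1 := by
    intro g
    rw [← Matrix.trace_fin_two]
    show LinearMap.trace ℂ _ (ρ g) = Matrix.trace (LinearMap.toMatrix' (ρ g))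
    rw [LinearMap.trace_eq_matrix_trace ℂ (Pi.basisFun ℂ (Fin 2))]
    rfl
  constructor
  · intro g
    rw [← hinv]
    have h1 : A g * A g⁻¹ = 1 := by
      rw [← hA1, mul_inv_cancel]
      show LinearMap.toMatrix' (ρ 1) = 1
      rw [map_one]
      exact LinearMap.toMatrix'_one
    have h3 : A g⁻¹ = (A g).adjugate := by
      have h4 := Matrix.adjugate_mul (A g)
      rw [hAd, one_smul] at h4
      calc A g⁻¹ = ((A g).adjugate * A g) * A g⁻¹ := by rw [h4, one_mul]
        _ = (A g).adjugate * (A g * A g⁻¹) := by rw [mul_assoc]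
        _ = (A g).adjugate := by rw [h1, mul_one]
    rw [hAt, hAt, h3, Matrix.adjugate_fin_two]
    simp
    ring
  · intro g
    rw [hAt, hAt, hA1]
    have h3 := hAd g
    rw [Matrix.det_fin_two] at h3
    simp only [Matrix.mul_apply, Fin.sum_univ_two]
    linear_combination (-2 : ℂ) * h3

end K

/-- An irreducible character of degree two. -/
structure Two {K : Type u} [Group K] (x : K → ℂ) : Prop where
  irr : IsIrrCharacter K x
  deg : x 1 = 2

/-- The square minus one. -/
def rho {K : Type u} (x : K → ℂ) : K → ℂ := x * x - 1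

/-- The third symmetric power. -/
def tau {K : Type u} (x : K → ℂ) : K → ℂ := x * rho x - x

/-- The average over the squares. -/
noncomputable def fs {K : Type u} [Group K] [Fintype K] (f : K → ℂ) : ℂ := av fun g => f (g * g)

section K2

variable {K : Type u} [Group K] [Fintype K] {x y z : K → ℂ}

theorem av_irr (hx : IsIrrCharacter K x) (hr : ∀ g, conj (x g) = x g) : av (x * x) = 1 := by
  rw [← inner_eq_av hr, classInner_irr_self hx]

theorem av_irr_ne (hx : IsIrrCharacter K x) (hy : IsIrrCharacter K y)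
    (hr : ∀ g, conj (y g) = y g) (h : x ≠ y) : av (x * y) = 0 := by
  rw [← inner_eq_av hr, classInner_irr_ne hx hy h]

theorem av_irr_one (hx : IsIrrCharacter K x) (h : x ≠ 1) : av x = 0 := by
  have h1 := av_irr_ne hx isIrr_one (fun g => by simp) h
  rwa [mul_one] at h1

theorem ne_one_of_deg {n : ℕ} (hn : x 1 = n) (h : n ≠ 1) : x ≠ 1 := by
  rintro rfl
  apply h
  have : ((n : ℕ) : ℂ) = 1 := by rw [← hn]; rfl
  exact_mod_cast this

theorem ne_of_deg {m n : ℕ} (hm : x 1 = m) (hn : y 1 = n) (h : m ≠ n) : x ≠ y := by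
  rintro rfl
  apply h
  rw [hm] at hn
  exact_mod_cast hn

theorem Two.deg' (hx : Two x) : x 1 = ((2 : ℕ) : ℂ) := by rw [hx.deg]; rfl

theorem Two.ne_one (hx : Two x) : x ≠ 1 := ne_one_of_deg hx.deg' (by norm_num)

variable (hK : ∀ f : K →* ℂˣ, f = 1)

include hK

theorem Two.real (hx : Two x) : ∀ g, conj (x g) = x g := (two_real hK hx.irr hx.deg).1

theorem Two.sq (hx : Two x) : ∀ g, x (g * g) = x g ^ 2 - 2 := (two_real hK hx.irr hx.deg).2

theorem rho_real (hx : Two x) : ∀ g, conj (rho x g) = rho x g := by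
  intro g
  show conj (x g * x g - 1) = x g * x g - 1
  rw [map_sub, map_mul, hx.real hK, map_one]

theorem rho_deg (hx : Two x) : rho x 1 = ((3 : ℕ) : ℂ) := by
  show x 1 * x 1 - 1 = _
  rw [hx.deg]
  push_cast
  ring

theorem rho_irr (hx : Two x) : IsIrrCharacter K (rho x) := by
  have hc := isCharacter_mul (isIrr_isCharacter hx.irr) (isIrr_isCharacter hx.irr)
  have h1 : classInner (x * x) 1 = 1 := by
    rw [inner_eq_av (fun g => by simp), mul_one, av_irr hx.irr (hx.real hK)]
  have h2 := isCharacter_sub_irr hc isIrr_one (by rw [h1]; exact one_ne_zero)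
  refine irr_three hK h2 (rho_deg hK hx) ?_
  unfold rho
  rw [classInner_sub_left, h1, classInner_irr_self isIrr_one, sub_self]

theorem rho_ne_one (hx : Two x) : rho x ≠ 1 := ne_one_of_deg (rho_deg hK hx) (by norm_num)

theorem rho_ne_two (hx : Two x) (hy : Two y) : rho x ≠ y :=
  ne_of_deg (rho_deg hK hx) hy.deg' (by norm_num)

theorem inner_mul_rho (hx : Two x) : classInner (x * rho x) x = 1 := by
  rw [inner_eq_av (hx.real hK)]
  have h1 : x * rho x * x = rho x + rho x * rho x := by
    unfold rho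
    ring
  rw [h1, av_add, av_irr_one (rho_irr hK hx) (rho_ne_one hK hx),
    av_irr (rho_irr hK hx) (rho_real hK hx), zero_add]

theorem tau_char (hx : Two x) : IsCharacter K (tau x) :=
  isCharacter_sub_irr (isCharacter_mul (isIrr_isCharacter hx.irr)
    (isIrr_isCharacter (rho_irr hK hx))) hx.irr (by
      rw [inner_mul_rho hK hx]
      exact one_ne_zero)

theorem tau_deg (hx : Two x) : tau x 1 = ((4 : ℕ) : ℂ) := by
  show x 1 * rho x 1 - x 1 = _
  rw [hx.deg, rho_deg hK hx]
  push_cast
  ring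

theorem tau_real (hx : Two x) : ∀ g, conj (tau x g) = tau x g := by
  intro g
  show conj (x g * rho x g - x g) = x g * rho x g - x g
  rw [map_sub, map_mul, hx.real hK, rho_real hK hx]

theorem inner_tau_self (hx : Two x) : classInner (tau x) x = 0 := by
  unfold tau
  rw [classInner_sub_left, inner_mul_rho hK hx, classInner_irr_self hx.irr, sub_self]

theorem tau_irr (hx : Two x) : IsIrrCharacter K (tau x) := by
  rcases irr_four hK (tau_char hK hx) (tau_deg hK hx) (by
    unfold tau
    rw [classInner_sub_left, inner_eq_av (fun g => by simp), mul_one,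
      classInner_irr_ne hx.irr isIrr_one hx.ne_one, sub_zero]
    rw [mul_comm]
    exact av_irr_ne (rho_irr hK hx) hx.irr (hx.real hK) (rho_ne_two hK hx hx)) with h | h
  · exact h
  · exfalso
    obtain ⟨η, κ, hη, hκ, hη2, hκ2, hsum⟩ := h
    have hη' : Two η := ⟨hη, hη2⟩
    have h0 := inner_tau_self hK hx
    have hnn : ∀ a : K → ℂ, IsIrrCharacter K a → classInner κ a = 0 ∨ classInner κ a = 1 := by
      intro a ha
      by_cases h : κ = a
      · right; rw [h, classInner_irr_self ha]
      · left; exact classInner_irr_ne hκ ha h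
    have hηx : η ≠ x := by
      rintro rfl
      rw [hsum, classInner_add_left, classInner_irr_self hη] at h0
      rcases hnn η hη with h | h <;> rw [h] at h0 <;> norm_num at h0
    have h1 : classInner (tau x) η ≠ 0 := by
      rw [hsum, classInner_add_left, classInner_irr_self hη]
      rcases hnn η hη with h | h <;> rw [h] <;> norm_num
    have h2 : classInner (x * η) (rho x) = classInner (tau x) η := by
      unfold tau
      rw [classInner_sub_left, classInner_irr_ne hx.irr hη (Ne.symm hηx), sub_zero,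
        inner_eq_av (rho_real hK hx), inner_eq_av (hη'.real hK)]
      congr 1
      ring
    have h3 := isCharacter_sub_irr (isCharacter_mul (isIrr_isCharacter hx.irr)
      (isIrr_isCharacter hη)) (rho_irr hK hx) (by rw [h2]; exact h1)
    have h4 := eq_one_of_degree_one hK h3 (by
      show x 1 * η 1 - rho x 1 = _
      rw [hx.deg, hη2, rho_deg hK hx]
      push_cast
      ring)
    have h5 : x * η = rho x + 1 := by
      rw [← h4]
      ring
    have h6 : av (x * η) = 0 := av_irr_ne hx.irr hη (hη'.real hK) (Ne.symm hηx)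
    rw [h5, av_add, av_irr_one (rho_irr hK hx) (rho_ne_one hK hx), av_one] at h6
    norm_num at h6

theorem av_two (hx : Two x) : av (x ^ 2) = 1 := by
  rw [pow_two]
  exact av_irr hx.irr (hx.real hK)

theorem av_four (hx : Two x) : av (x ^ 4) = 2 := by
  have h1 : x ^ 4 = 1 + (2 : ℂ) • rho x + rho x * rho x := by
    funext g
    simp only [rho, Pi.pow_apply, Pi.add_apply, Pi.smul_apply, Pi.sub_apply, Pi.mul_apply,
      Pi.one_apply, smul_eq_mul]
    ring
  rw [h1, av_add, av_add, av_smul, av_one, av_irr_one (rho_irr hK hx) (rho_ne_one hK hx),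
    av_irr (rho_irr hK hx) (rho_real hK hx)]
  norm_num

theorem av_six (hx : Two x) : av (x ^ 6) = 5 := by
  have h1 : x ^ 6 = tau x * tau x + (4 : ℂ) • (tau x * x) + (4 : ℂ) • (x * x) := by
    funext g
    simp only [tau, rho, Pi.pow_apply, Pi.add_apply, Pi.smul_apply, Pi.sub_apply, Pi.mul_apply,
      Pi.one_apply, smul_eq_mul]
    ring
  rw [h1, av_add, av_add, av_smul, av_smul, av_irr (tau_irr hK hx) (tau_real hK hx),
    av_irr hx.irr (hx.real hK), ← inner_eq_av (hx.real hK), inner_tau_self hK hx]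
  norm_num

theorem fs_two (hx : Two x) : fs x = -1 := by
  have h1 : (fun g => x (g * g)) = x ^ 2 - (2 : ℂ) • (1 : K → ℂ) := by
    funext g
    rw [hx.sq hK]
    simp
  unfold fs
  rw [h1, av_sub, av_smul, av_one, av_two hK hx]
  norm_num

theorem fs_tau (hx : Two x) : fs (tau x) = -1 := by
  have h1 : (fun g => tau x (g * g)) = x ^ 6 - (6 : ℂ) • x ^ 4 + (10 : ℂ) • x ^ 2 -
      (4 : ℂ) • (1 : K → ℂ) := by
    funext g
    simp only [tau, rho, Pi.pow_apply, Pi.add_apply, Pi.smul_apply, Pi.sub_apply, Pi.mul_apply,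
      Pi.one_apply, smul_eq_mul, hx.sq hK]
    ring
  unfold fs
  rw [h1, av_sub, av_add, av_sub, av_smul, av_smul, av_smul, av_one, av_two hK hx, av_four hK hx,
    av_six hK hx]
  norm_num

theorem prod_real (hx : Two x) (hy : Two y) : ∀ g, conj ((x * y) g) = (x * y) g := by
  intro g
  rw [Pi.mul_apply, map_mul, hx.real hK, hy.real hK]

theorem fs_prod (hx : Two x) (hy : Two y) : fs (x * y) = classInner (x * y) (x * y) := by
  have h1 : (fun g => (x * y) (g * g)) = (x * y) * (x * y) - (2 : ℂ) • x ^ 2 - (2 : ℂ) • y ^ 2 +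
      (4 : ℂ) • (1 : K → ℂ) := by
    funext g
    simp only [Pi.pow_apply, Pi.add_apply, Pi.smul_apply, Pi.sub_apply, Pi.mul_apply,
      Pi.one_apply, smul_eq_mul, hx.sq hK, hy.sq hK]
    ring
  unfold fs
  rw [h1, av_add, av_sub, av_sub, av_smul, av_smul, av_smul, av_one, av_two hK hx, av_two hK hy,
    inner_eq_av (prod_real hK hx hy)]
  ring

/-- The product of two different characters of degree two is irreducible. -/
theorem prod_irr (hx : Two x) (hy : Two y) (hne : x ≠ y) : IsIrrCharacter K (x * y) := by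
  have hc := isCharacter_mul (isIrr_isCharacter hx.irr) (isIrr_isCharacter hy.irr)
  rcases irr_four hK hc (by
    rw [Pi.mul_apply, hx.deg, hy.deg]
    push_cast
    norm_num) (by
    rw [inner_eq_av (fun g => by simp), mul_one]
    exact av_irr_ne hx.irr hy.irr (hy.real hK) hne) with h | h
  · exact h
  · exfalso
    obtain ⟨η, κ, hη, hκ, hη2, hκ2, hsum⟩ := h
    have h1 : fs (x * y) = -2 := by
      rw [hsum]
      have h2 : fs (η + κ) = fs η + fs κ := by
        unfold fs
        rw [← av_add]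
        rfl
      rw [h2, fs_two hK ⟨hη, hη2⟩, fs_two hK ⟨hκ, hκ2⟩]
      norm_num
    obtain ⟨k, hk⟩ := classInner_isNat hc hc
    rw [fs_prod hK hx hy, hk] at h1
    have h2 : ((k + 2 : ℕ) : ℂ) = 0 := by
      push_cast
      rw [h1]
      norm_num
    have h3 : k + 2 = 0 := by exact_mod_cast h2
    omega

theorem prod_deg (hx : Two x) (hy : Two y) : (x * y) 1 = ((4 : ℕ) : ℂ) := by
  rw [Pi.mul_apply, hx.deg, hy.deg]
  push_cast
  norm_num

theorem prod_ne (hx : Two x) (hy : Two y) (hz : Two z) (hxy : x ≠ y) (hyz : y ≠ z) :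
    x * y ≠ x * z := by
  intro h
  have h1 : classInner (x * y) (x * y) = 1 := classInner_irr_self (prod_irr hK hx hy hxy)
  have h2 : classInner (x * y) (x * z) = av (y * z + rho x * (y * z)) := by
    rw [inner_eq_av (prod_real hK hx hz)]
    congr 1
    unfold rho
    ring
  have hyzi := prod_irr hK hy hz hyz
  rw [← h, h1, av_add, av_irr_ne hy.irr hz.irr (hz.real hK) hyz,
    av_irr_ne (rho_irr hK hx) hyzi (prod_real hK hy hz)
      (ne_of_deg (rho_deg hK hx) (prod_deg hK hy hz) (by norm_num))] at h2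
  norm_num at h2

theorem tau_ne_prod (hx : Two x) (hy : Two y) (hz : Two z) (hyz : y ≠ z) : tau x ≠ y * z := by
  intro h
  have h1 := fs_tau hK hx
  rw [h, fs_prod hK hy hz, classInner_irr_self (prod_irr hK hy hz hyz)] at h1
  norm_num at h1

end K2

end Cfsg.Agent.H595.AvgTwo
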