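import Cfsg.Agent.H306.AbSolv
import Cfsg.Agent.Walter.AbTypes
import Cfsg.Agent.H595.AbCount
import Cfsg.Agent.H595.NormalRank
import Cfsg.Agent.S4551
import Cfsg.Agent.S4571

/-!
# Groups with `O(X) = 1`, abelian Sylow `2`-subgroups and prime inertial index: structure
-/

set_option autoImplicit false
set_option linter.unusedSectionVars false

namespace Cfsg.Agent.H595.AbTwo

open Subgroup Cfsg
open Cfsg.Agent.SignalizersComponents
open Cfsg.Agent.SignalizersComponents.Components
open Cfsg.Agent.Walter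
open Cfsg.Agent.Walter.Types

universe u

variable {X : Type u} [Group X] [Finite X] {S : Sylow 2 X} {K L : Subgroup X} {e : ℕ}

/-- a component exists in the nonsolvable case -/
theorem exists_component (hodd : H306.AbSolv.OddSolv.{u}) (hO : pPrimeCore 2 X = ⊥)
    (hS : ∀ a ∈ (S : Subgroup X), ∀ b ∈ (S : Subgroup X), a * b = b * a)
    (hns : ¬ Group.IsSolvable X) : ∃ K : Subgroup X, IsComponent K := by
  by_contra hno
  have hl : layer X = ⊥ := by
    rw [layer, eq_bot_iff]
    exact sSup_le (fun K hK => (hno ⟨K, hK⟩).elim)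
  have h1 := AbStruct.genFitting_eq hO
  rw [hl, sup_bot_eq] at h1
  have h2 := AbStruct.odd_index hO hS
  rw [h1] at h2
  have hn : (pCore 2 X).Normal := Lib.Cores.pCore_normal 2
  have h3 : Group.IsSolvable (pCore 2 X) := by
    have := (Lib.Cores.pCore_isPGroup (G := X) 2).isNilpotent
    infer_instance
  have h4 : Group.IsSolvable (X ⧸ pCore 2 X) := hodd _ h2
  exact hns (Group.isSolvable_of_ker_le_range (pCore 2 X).subtype
    (QuotientGroup.mk' (pCore 2 X)) (by simp))

/-- elements of `K` normalizing `S ∩ K` normalize `S` -/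
theorem mem_normalizer_of (hO : pPrimeCore 2 X = ⊥)
    (hS : ∀ a ∈ (S : Subgroup X), ∀ b ∈ (S : Subgroup X), a * b = b * a)
    (hK : IsComponent K) {k : X} (hk : k ∈ K)
    (hkn : ∀ s ∈ (S : Subgroup X) ⊓ K, k * s * k⁻¹ ∈ (S : Subgroup X) ⊓ K) :
    k ∈ normalizer ((S : Subgroup X) : Set X) := by
  have h1 : (S : Subgroup X).map (MulAut.conj k).toMonoidHom ≤ S := by
    rintro _ ⟨s, hs, rfl⟩
    obtain ⟨a, ha, c, hc, rfl⟩ := AbStruct.exists_inner hO hS hK hs
    show k * (a * c) * k⁻¹ ∈ (S : Subgroup X)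
    have h2 : k * c * k⁻¹ = c := by
      have := mem_centralizer_iff.1 hc.2 k hk
      rw [this, mul_inv_cancel_right]
    have h3 : k * (a * c) * k⁻¹ = (k * a * k⁻¹) * (k * c * k⁻¹) := by group
    rw [h3, h2]
    exact mul_mem (hkn a ha).1 hc.1
  have h4 : (S : Subgroup X).map (MulAut.conj k).toMonoidHom = S := by
    refine Subgroup.eq_of_le_of_card_ge h1 ?_
    rw [Subgroup.card_map_of_injective (MulAut.conj k).injective]
  exact BalanceAux.mem_normalizer_of_map_conj_eq h4

/-- membership in the normalizer of the Sylow subgroup of the component -/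
theorem coe_mem_normalizer (hO : pPrimeCore 2 X = ⊥)
    (hS : ∀ a ∈ (S : Subgroup X), ∀ b ∈ (S : Subgroup X), a * b = b * a)
    (hK : IsComponent K) (P : Sylow 2 K) (hP : (P : Subgroup K) = (S : Subgroup X).subgroupOf K)
    (k : K) : k ∈ normalizer ((P : Subgroup K) : Set K) ↔
      (k : X) ∈ normalizer ((S : Subgroup X) : Set X) := by
  constructor
  · intro h
    refine mem_normalizer_of hO hS hK k.2 ?_
    intro s hs
    have h1 : (⟨s, hs.2⟩ : K) ∈ (P : Subgroup K) := by
      rw [hP]; exact mem_subgroupOf.2 hs.1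
    have h2 := (mem_normalizer_iff.1 h _).1 h1
    rw [hP, mem_subgroupOf] at h2
    exact ⟨h2, K.mul_mem (K.mul_mem k.2 hs.2) (K.inv_mem k.2)⟩
  · intro h
    rw [mem_normalizer_iff] at h ⊢
    intro s
    rw [hP, mem_subgroupOf, mem_subgroupOf]
    exact h s

theorem coe_mem_centralizer (hO : pPrimeCore 2 X = ⊥)
    (hS : ∀ a ∈ (S : Subgroup X), ∀ b ∈ (S : Subgroup X), a * b = b * a)
    (hK : IsComponent K) (P : Sylow 2 K) (hP : (P : Subgroup K) = (S : Subgroup X).subgroupOf K)
    (k : K) : k ∈ centralizer ((P : Subgroup K) : Set K) ↔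
      (k : X) ∈ centralizer ((S : Subgroup X) : Set X) := by
  constructor
  · intro h
    rw [mem_centralizer_iff]
    intro s hs
    obtain ⟨a, ha, c, hc, rfl⟩ := AbStruct.exists_inner hO hS hK hs
    have h1 : (⟨a, ha.2⟩ : K) ∈ (P : Subgroup K) := by
      rw [hP]; exact mem_subgroupOf.2 ha.1
    have h2 : a * (k : X) = k * a := congrArg Subtype.val (mem_centralizer_iff.1 h _ h1)
    have h3 : (k : X) * c = c * k := mem_centralizer_iff.1 hc.2 k k.2
    rw [mul_assoc, ← h3, ← mul_assoc, h2, mul_assoc]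
  · intro h
    rw [mem_centralizer_iff]
    intro s hs
    rw [SetLike.mem_coe, hP, mem_subgroupOf] at hs
    exact Subtype.ext (mem_centralizer_iff.1 h s hs)

/-- the normalizer of `S` in a component does not centralize `S` -/
theorem not_le (hO : pPrimeCore 2 X = ⊥)
    (hS : ∀ a ∈ (S : Subgroup X), ∀ b ∈ (S : Subgroup X), a * b = b * a)
    (hK : IsComponent K) :
    ¬ K ⊓ normalizer ((S : Subgroup X) : Set X) ≤ centralizer ((S : Subgroup X) : Set X) := by
  intro h
  have : Fact (Nat.Prime 2) := ⟨Nat.prime_two⟩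
  obtain ⟨P, hP⟩ := AbStruct.exists_sylow S hK
  have h1 : normalizer ((P : Subgroup K) : Set K) ≤ centralizer ((P : Subgroup K) : Set K) := by
    intro k hk
    rw [coe_mem_centralizer hO hS hK P hP]
    rw [coe_mem_normalizer hO hS hK P hP] at hk
    exact h ⟨k.2, hk⟩
  obtain ⟨Q, N, hN, hc⟩ := AbCount.hnc_of_le P h1
  have hsimp := AbStruct.isSimpleGroup hO hS hK
  rcases hsimp.eq_bot_or_eq_top_of_normal N hN with h2 | h2
  · have h3 : (Q : Subgroup K) = ⊤ := by
      rw [h2] at hc
      exact isComplement'_bot_left.1 hc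
    have h4 : Group.IsSolvable K := by
      have h5 : IsPGroup 2 K := by
        have := Q.2
        rw [h3] at this
        exact this.of_equiv Subgroup.topEquiv
      have := h5.isNilpotent
      infer_instance
    exact quasisimple_not_isSolvable hK.2 h4
  · have h3 : (Q : Subgroup K) = ⊥ := by
      rw [h2] at hc
      exact isComplement'_top_left.1 hc
    have h4 := Q.not_dvd_index
    rw [h3, index_bot] at h4
    exact h4 (AbStruct.two_dvd_card hO hK)

/-- `N(S) = (K ∩ N(S)) C(S)` -/
theorem normalizer_le (hO : pPrimeCore 2 X = ⊥)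
    (hS : ∀ a ∈ (S : Subgroup X), ∀ b ∈ (S : Subgroup X), a * b = b * a)
    (he : (centralizer ((S : Subgroup X) : Set X)).relIndex
      (normalizer ((S : Subgroup X) : Set X)) = e) (hpe : e.Prime)
    (hK : IsComponent K) :
    normalizer ((S : Subgroup X) : Set X) ≤
      (K ⊓ normalizer ((S : Subgroup X) : Set X)) ⊔ centralizer ((S : Subgroup X) : Set X) := by
  set N := normalizer ((S : Subgroup X) : Set X) with hN
  set C := centralizer ((S : Subgroup X) : Set X) with hC
  have h1 : C ≤ (K ⊓ N) ⊔ C := le_sup_right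
  have h2 : (K ⊓ N) ⊔ C ≤ N := sup_le inf_le_right (centralizer_le_normalizer _)
  have h3 := relIndex_mul_relIndex _ _ _ h1 h2
  rw [he] at h3
  rcases hpe.eq_one_or_self_of_dvd _ ⟨_, h3.symm⟩ with h | h
  · exact absurd (le_sup_left.trans (relIndex_eq_one.1 h)) (not_le hO hS hK)
  · rw [h] at h3
    exact relIndex_eq_one.1 (Nat.eq_of_mul_eq_mul_left hpe.pos (h3.trans (mul_one e).symm))

theorem exists_mul_of_mem_normalizer (hO : pPrimeCore 2 X = ⊥)
    (hS : ∀ a ∈ (S : Subgroup X), ∀ b ∈ (S : Subgroup X), a * b = b * a)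
    (he : (centralizer ((S : Subgroup X) : Set X)).relIndex
      (normalizer ((S : Subgroup X) : Set X)) = e) (hpe : e.Prime)
    (hK : IsComponent K) {n : X} (hn : n ∈ normalizer ((S : Subgroup X) : Set X)) :
    ∃ k ∈ K ⊓ normalizer ((S : Subgroup X) : Set X), ∃ c ∈ centralizer ((S : Subgroup X) : Set X),
      n = k * c := by
  have h1 := normalizer_le hO hS he hpe hK hn
  set N := normalizer ((S : Subgroup X) : Set X) with hN
  set C := centralizer ((S : Subgroup X) : Set X) with hC
  have hCN : C ≤ N := centralizer_le_normalizer _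
  have h2 : K ⊓ N ≤ normalizer (C : Set X) := by
    intro x hx
    have h3 : x ∈ N := hx.2
    rw [mem_normalizer_iff] at h3 ⊢
    intro g
    have key : ∀ (y : X) (hy : ∀ h : X, h ∈ ((S : Subgroup X) : Set X) ↔
        y * h * y⁻¹ ∈ ((S : Subgroup X) : Set X)) (g : X), g ∈ C → y * g * y⁻¹ ∈ C := by
      intro y hy g hg
      rw [hC, mem_centralizer_iff] at hg ⊢
      intro s hs
      have h5 : y⁻¹ * s * y ∈ ((S : Subgroup X) : Set X) := by
        rw [hy]
        have : y * (y⁻¹ * s * y) * y⁻¹ = s := by group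
        rw [this]; exact hs
      have h6 := hg _ h5
      calc s * (y * g * y⁻¹) = y * ((y⁻¹ * s * y) * g) * y⁻¹ := by group
        _ = y * (g * (y⁻¹ * s * y)) * y⁻¹ := by rw [h6]
        _ = y * g * y⁻¹ * s := by group
    constructor
    · exact key x h3 g
    · intro hg
      have h7 : x⁻¹ ∈ N := inv_mem hx.2
      rw [mem_normalizer_iff] at h7
      have := key x⁻¹ h7 _ hg
      have h8 : x⁻¹ * (x * g * x⁻¹) * x⁻¹⁻¹ = g := by group
      rwa [h8] at this
  have h3 : n ∈ (((K ⊓ N) ⊔ C : Subgroup X) : Set X) := h1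
  rw [coe_mul_of_left_le_normalizer_right _ _ h2] at h3
  obtain ⟨k, hk, c, hc, h⟩ := h3
  exact ⟨k, hk, c, hc, h.symm⟩

/-- the component is unique -/
theorem component_unique (hO : pPrimeCore 2 X = ⊥)
    (hS : ∀ a ∈ (S : Subgroup X), ∀ b ∈ (S : Subgroup X), a * b = b * a)
    (he : (centralizer ((S : Subgroup X) : Set X)).relIndex
      (normalizer ((S : Subgroup X) : Set X)) = e) (hpe : e.Prime)
    (hK : IsComponent K) (hL : IsComponent L) : L = K := by
  by_contra hne
  have h1 := Cfsg.Agent.S1270.component_comm_of_ne hL hK hne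
  rw [commutator_eq_bot_iff_le_centralizer] at h1
  apply not_le hO hS hL
  intro l hl
  obtain ⟨k, hk, c, hc, rfl⟩ := exists_mul_of_mem_normalizer hO hS he hpe hK hl.2
  rw [mem_centralizer_iff] at hc ⊢
  intro s hs
  obtain ⟨a, ha, b, hb, rfl⟩ := AbStruct.exists_inner hO hS hK hs
  have h2 : a * (k * c) = k * c * a := mem_centralizer_iff.1 (h1 hl.1) a ha.2
  have h3 : k * b = b * k := mem_centralizer_iff.1 hb.2 k hk.1
  have h4 := hc b hb.1
  calc a * b * (k * c) = a * (b * k) * c := by group
    _ = a * (k * b) * c := by rw [h3]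
    _ = a * k * (b * c) := by group
    _ = a * k * (c * b) := by rw [h4]
    _ = (a * (k * c)) * b := by group
    _ = (k * c * a) * b := by rw [h2]
    _ = k * c * (a * b) := by group

end Cfsg.Agent.H595.AbTwo
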