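import Cfsg.Agent.H595.AbTwo

/-!
# Groups with `O(X) = 1`, abelian Sylow `2`-subgroups and prime inertial index: counting
-/

set_option autoImplicit false
set_option linter.unusedSectionVars false

namespace Cfsg.Agent.H595.AbTwo

open Subgroup Cfsg
open Cfsg.Agent.SignalizersComponents
open Cfsg.Agent.SignalizersComponents.Components
open Cfsg.Agent.Walter
open Cfsg.Agent.Walter.Types

universe u

theorem relIndex_inf_eq {G : Type*} [Group G] {C N D : Subgroup G} (hCN : C ≤ N)
    (hn : (C.subgroupOf N).Normal) (h : N ≤ (D ⊓ N) ⊔ C) :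
    C.relIndex (N ⊓ D) = C.relIndex N := by
  have h1 : (D ⊓ N) ≤ N := inf_le_right
  have h2 : (D ⊓ N).subgroupOf N ⊔ C.subgroupOf N = ⊤ := by
    rw [← subgroupOf_sup h1 hCN, subgroupOf_eq_top]
    exact h
  have h3 := relIndex_sup_right ((D ⊓ N).subgroupOf N) (C.subgroupOf N)
  rw [h2, relIndex_top_right, relIndex_subgroupOf h1] at h3
  rw [inf_comm, ← h3]
  rfl

/-- **Simple groups**: no non-trivial element of the abelian Sylow `2`-subgroup is centralized by its
normalizer. -/
theorem not_centralized_simple {K : Type*} [Group K] [Finite K] (hK : IsSimpleGroup K)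
    (hKc : ¬ IsMulCommutative K) (P : Sylow 2 K)
    (hP : ∀ a ∈ (P : Subgroup K), ∀ b ∈ (P : Subgroup K), a * b = b * a) {u : K}
    (hu : u ∈ (P : Subgroup K)) (hu1 : u ≠ 1) :
    ¬ normalizer ((P : Subgroup K) : Set K) ≤ centralizer ({u} : Set K) := by
  intro h
  have : Fact (Nat.Prime 2) := ⟨Nat.prime_two⟩
  obtain ⟨k, hk⟩ := IsPGroup.iff_orderOf.1 P.2 ⟨u, hu⟩
  rw [Subgroup.orderOf_mk] at hk
  have hk0 : k ≠ 0 := by
    rintro rfl
    rw [pow_zero] at hk
    exact hu1 (orderOf_eq_one_iff.1 hk)
  set v := u ^ 2 ^ (k - 1) with hv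
  have hv2 : orderOf v = 2 := by
    rw [hv, orderOf_pow' u (by positivity), hk]
    have h1 : Nat.gcd (2 ^ k) (2 ^ (k - 1)) = 2 ^ (k - 1) :=
      Nat.gcd_eq_right (pow_dvd_pow 2 (by omega))
    rw [h1, Nat.pow_div (by omega) (by norm_num)]
    have : k - (k - 1) = 1 := by omega
    rw [this, pow_one]
  have hvP : v ∈ (P : Subgroup K) := Subgroup.pow_mem _ hu _
  have hfix : ∀ n ∈ normalizer ((P : Subgroup K) : Set K), n * v * n⁻¹ = v := by
    intro n hn
    have h1 : n * u = u * n := (mem_centralizer_singleton_iff.1 (h hn))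
    have h2 : Commute n v := (show Commute n u from h1).pow_right _
    rw [h2.eq, mul_inv_cancel_right]
  have h1 := AbInner.commutator_mem_core P hP hvP hv2 hfix
  have hn : (pPrimeCore 2 K).Normal := Lib.Cores.pPrimeCore_normal 2
  rcases hK.eq_bot_or_eq_top_of_normal _ hn with h2 | h2
  · have h3 : v ∈ center K := by
      rw [mem_center_iff]
      intro g
      have h4 := h1 g
      rw [h2, mem_bot, commutatorElement_eq_one_iff_mul_comm] at h4
      exact h4.symm
    rcases hK.eq_bot_or_eq_top_of_normal (center K) inferInstance with h4 | h4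
    · rw [h4, mem_bot] at h3
      rw [h3, orderOf_one] at hv2
      omega
    · apply hKc
      refine ⟨⟨fun x y => ?_⟩⟩
      have h5 : y ∈ center K := by rw [h4]; exact mem_top _
      exact mem_center_iff.1 h5 x
  · have h3 : (Nat.card (pPrimeCore 2 K)).Coprime 2 := Lib.Cores.pPrimeCore_coprime 2
    rw [h2, Subgroup.card_top] at h3
    have h4 : 2 ∣ Nat.card K := by rw [← hv2]; exact orderOf_dvd_natCard v
    have h5 := Nat.dvd_gcd h4 (dvd_refl 2)
    rw [h3] at h5
    omega

variable {X : Type u} [Group X] [Finite X] {S : Sylow 2 X} {K L : Subgroup X} {e : ℕ}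

section

variable (hO : pPrimeCore 2 X = ⊥)
  (hS : ∀ a ∈ (S : Subgroup X), ∀ b ∈ (S : Subgroup X), a * b = b * a)
  (he : (centralizer ((S : Subgroup X) : Set X)).relIndex
    (normalizer ((S : Subgroup X) : Set X)) = e) (hpe : e.Prime) (hK : IsComponent K)

include hO hS he hpe hK

theorem layer_eq : layer X = K := by
  rw [layer]
  apply le_antisymm
  · exact sSup_le fun L hL => (component_unique hO hS he hpe hK hL).le
  · exact le_sSup hK

theorem normal : K.Normal := by
  rw [← layer_eq hO hS he hpe hK]; exact LayerBasic.layer_normal X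

theorem inf_centralizer_eq : (S : Subgroup X) ⊓ centralizer (K : Set X) = pCore 2 X := by
  have := AbStruct.inf_centralizer_layer hO hS
  rwa [layer_eq hO hS he hpe hK] at this

theorem pCore_le_center : pCore 2 X ≤ center X := by
  have : Fact (Nat.Prime 2) := ⟨Nat.prime_two⟩
  have hn : (pCore 2 X).Normal := Lib.Cores.pCore_normal 2
  have hnC : (centralizer (pCore 2 X : Set X)).Normal := inferInstance
  have hAS : pCore 2 X ≤ (S : Subgroup X) := Lib.Cores.pCore_le_sylow S
  have hAK := inf_centralizer_eq hO hS he hpe hK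
  have h1 : (S : Subgroup X) ≤ centralizer (pCore 2 X : Set X) := by
    intro s hs
    rw [mem_centralizer_iff]
    intro a ha
    exact hS a (hAS ha) s hs
  have h2 := S.normalizer_sup_eq_top' h1
  have h3 : normalizer ((S : Subgroup X) : Set X) ≤ centralizer (pCore 2 X : Set X) := by
    refine (normalizer_le hO hS he hpe hK).trans (sup_le ?_ ?_)
    · refine inf_le_left.trans ?_
      intro k hk
      rw [mem_centralizer_iff]
      intro a ha
      rw [← hAK] at ha
      exact (mem_centralizer_iff.1 ha.2 k hk).symm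
    · exact centralizer_le hAS
  have h4 : centralizer (pCore 2 X : Set X) = ⊤ := by
    rw [eq_top_iff, ← h2]
    exact sup_le h3 le_rfl
  exact centralizer_eq_top_iff_subset.1 h4

theorem sup_pCore : ((S : Subgroup X) ⊓ K) ⊔ pCore 2 X = S := by
  rw [← inf_centralizer_eq hO hS he hpe hK]
  exact (AbTypes.card_inf_mul hO hS hK).2.1

theorem card_mul : Nat.card ((S : Subgroup X) ⊓ K : Subgroup X) * Nat.card (pCore 2 X) =
    Nat.card (S : Subgroup X) := by
  rw [← inf_centralizer_eq hO hS he hpe hK]
  exact (AbTypes.card_inf_mul hO hS hK).1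

/-- no element of `S` outside `O_2(X)` is centralized by `K ∩ N(S)` -/
theorem not_centralized {u : X} (hu : u ∈ (S : Subgroup X)) (huA : u ∉ pCore 2 X) :
    ¬ K ⊓ normalizer ((S : Subgroup X) : Set X) ≤ centralizer ({u} : Set X) := by
  intro h
  obtain ⟨k, hk, c, hc, rfl⟩ := AbStruct.exists_inner hO hS hK hu
  rw [inf_centralizer_eq hO hS he hpe hK] at hc
  have hcc := mem_center_iff.1 (pCore_le_center hO hS he hpe hK hc)
  obtain ⟨P, hP⟩ := AbStruct.exists_sylow S hK
  have hkP : (⟨k, hk.2⟩ : K) ∈ (P : Subgroup K) := by rw [hP]; exact mem_subgroupOf.2 hk.1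
  refine not_centralized_simple (AbStruct.isSimpleGroup hO hS hK) (AbStruct.not_comm hK) P (by
    rw [hP]; exact AbStruct.comm_subgroupOf hS) hkP ?_ ?_
  · intro h1
    apply huA
    have h2 : k = 1 := congrArg Subtype.val h1
    rw [h2, one_mul]
    exact hc
  · intro n hn
    have h1 := h ⟨n.2, (coe_mem_normalizer hO hS hK P hP n).1 hn⟩
    rw [mem_centralizer_singleton_iff] at h1 ⊢
    apply Subtype.ext
    show (n : X) * k = k * n
    have h2 : (n : X) * (k * c) = k * n * c := by
      rw [h1, mul_assoc, ← hcc, ← mul_assoc]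
    rw [← mul_assoc] at h2
    exact mul_right_cancel h2

theorem relIndex_component (P : Sylow 2 K) (hP : (P : Subgroup K) = (S : Subgroup X).subgroupOf K) :
    (centralizer ((P : Subgroup K) : Set K)).relIndex (normalizer ((P : Subgroup K) : Set K)) = e := by
  have h1 : normalizer ((P : Subgroup K) : Set K) =
      (normalizer ((S : Subgroup X) : Set X) ⊓ K).subgroupOf K := by
    ext k
    rw [coe_mem_normalizer hO hS hK P hP, mem_subgroupOf, mem_inf]
    exact ⟨fun h => ⟨h, k.2⟩, fun h => h.1⟩
  have h2 : centralizer ((P : Subgroup K) : Set K) =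
      (centralizer ((S : Subgroup X) : Set X)).subgroupOf K := by
    ext k
    rw [coe_mem_centralizer hO hS hK P hP, mem_subgroupOf]
  rw [h1, h2, relIndex_subgroupOf inf_le_right, ← he]
  exact relIndex_inf_eq (centralizer_le_normalizer _) inferInstance
    (normalizer_le hO hS he hpe hK)

end

end Cfsg.Agent.H595.AbTwo
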