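import Cfsg.Agent.H595.AbTwoB

/-!
# Groups with `O(X) = 1`, abelian Sylow `2`-subgroups and prime inertial index: the principal block
-/

set_option autoImplicit false
set_option linter.unusedSectionVars false

namespace Cfsg.Agent.H595.AbTwo

open Subgroup Cfsg
open Cfsg.Agent.SignalizersComponents
open Cfsg.Agent.SignalizersComponents.Components
open Cfsg.Agent.Walter
open Cfsg.Agent.Walter.Types

universe u

variable {M : Ideal AlgInt}

/-- Alperin's theorem, the cardinalities. -/
theorem card_alperin {G : Type*} [Group G] [Finite G] {p : ℕ} [Fact p.Prime]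
    (hM : IsPModular p M) (N : Subgroup G) [N.Normal] (hidx : ¬ p ∣ N.index) (P : Sylow p G)
    (hsup : N ⊔ centralizer ((P : Subgroup G) : Set G) = ⊤) :
    Nat.card (principalBlock M G) = Nat.card (principalBlock M N) := by
  obtain ⟨h1, h2⟩ := S4551.result p M hM N hidx P hsup
  choose f hf hfe using fun χ : principalBlock M G => h1 χ.1 χ.2
  refine Nat.card_congr (Equiv.ofBijective (fun χ => (⟨f χ, hf χ⟩ : principalBlock M N)) ⟨?_, ?_⟩)
  · intro χ ψ h
    have h3 : f χ = f ψ := congrArg Subtype.val h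
    obtain ⟨ζ, -, hu⟩ := h2 (f χ) (hf χ)
    apply Subtype.ext
    rw [hu χ.1 ⟨χ.2, hfe χ⟩, hu ψ.1 ⟨ψ.2, by rw [h3]; exact hfe ψ⟩]
  · intro θ
    obtain ⟨ζ, ⟨hζ, hζe⟩, -⟩ := h2 θ.1 θ.2
    refine ⟨⟨ζ, hζ⟩, ?_⟩
    apply Subtype.ext
    apply Subtype.ext
    funext n
    show (f ⟨ζ, hζ⟩ : N → ℂ) n = (θ.1 : N → ℂ) n
    rw [← hζe n, ← hfe ⟨ζ, hζ⟩ n]

variable {X : Type u} [Group X] [Finite X] {S : Sylow 2 X} {K L : Subgroup X} {e : ℕ}

theorem rank_card (hM : IsPModular 2 M) (hO : pPrimeCore 2 X = ⊥)
    (hS : ∀ a ∈ (S : Subgroup X), ∀ b ∈ (S : Subgroup X), a * b = b * a)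
    (he : (centralizer ((S : Subgroup X) : Set X)).relIndex
      (normalizer ((S : Subgroup X) : Set X)) = e) (hpe : e.Prime) (hK : IsComponent K)
    (P : Sylow 2 K) (hP : (P : Subgroup K) = (S : Subgroup X).subgroupOf K)
    (h1 : blockRank 2 (principalBlock M K) = e) (h2 : Nat.card (P : Subgroup K) = e + 1) :
    blockRank 2 (principalBlock M X) = e ∧
      Nat.card (principalBlock M X) = Nat.card (S : Subgroup X) := by
  classical
  have : Fact (Nat.Prime 2) := ⟨Nat.prime_two⟩
  set A := pCore 2 X with hA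
  have hAS : A ≤ (S : Subgroup X) := Lib.Cores.pCore_le_sylow S
  have hAc : A ≤ center X := pCore_le_center hO hS he hpe hK
  have hKn : K.Normal := normal hO hS he hpe hK
  have hAn : A.Normal := Lib.Cores.pCore_normal 2
  set N := K ⊔ A with hN
  have hNn : N.Normal := inferInstance
  have hKN : K ≤ N := le_sup_left
  have hAN : A ≤ N := le_sup_right
  have hSN : (S : Subgroup X) ≤ N := by
    rw [← sup_pCore hO hS he hpe hK]
    exact sup_le (inf_le_right.trans hKN) hAN
  have hidx : ¬ 2 ∣ N.index := fun h => S.not_dvd_index (h.trans (index_dvd_of_le hSN))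
  have hsup : N ⊔ centralizer ((S : Subgroup X) : Set X) = ⊤ := by
    rw [eq_top_iff, ← S.normalizer_sup_eq_top' hSN]
    refine sup_le ((normalizer_le hO hS he hpe hK).trans (sup_le ?_ le_sup_right)) le_sup_left
    exact inf_le_left.trans (hKN.trans le_sup_left)
  have h3 := card_alperin hM N hidx S hsup
  -- counting in `X`
  have h4 := AbCount.card_principal hM S hS he hpe A hAS hAc (fun u hu huA h =>
    not_centralized hO hS he hpe hK hu huA (inf_le_right.trans h))
  -- counting in `N`
  have hS' : ∀ a ∈ ((S.subtype hSN : Sylow 2 N) : Subgroup N),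
      ∀ b ∈ ((S.subtype hSN : Sylow 2 N) : Subgroup N), a * b = b * a := by
    intro a ha b hb
    rw [Sylow.coe_subtype] at ha hb
    exact Subtype.ext (hS a (mem_subgroupOf.1 ha) b (mem_subgroupOf.1 hb))
  have hnorm : normalizer (((S.subtype hSN : Sylow 2 N) : Subgroup N) : Set N) =
      (normalizer ((S : Subgroup X) : Set X)).subgroupOf N := by
    rw [Sylow.coe_subtype]
    exact (subgroupOf_normalizer_eq hSN).symm
  have hcent : centralizer (((S.subtype hSN : Sylow 2 N) : Subgroup N) : Set N) =
      (centralizer ((S : Subgroup X) : Set X)).subgroupOf N := by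
    rw [Sylow.coe_subtype]
    ext n
    rw [mem_subgroupOf, mem_centralizer_iff, mem_centralizer_iff]
    constructor
    · intro h s hs
      exact congrArg Subtype.val (h ⟨s, hSN hs⟩ (mem_subgroupOf.2 hs))
    · intro h s hs
      exact Subtype.ext (h s (mem_subgroupOf.1 hs))
  have he' : (centralizer (((S.subtype hSN : Sylow 2 N) : Subgroup N) : Set N)).relIndex
      (normalizer (((S.subtype hSN : Sylow 2 N) : Subgroup N) : Set N)) = e := by
    rw [hnorm, hcent, ← inf_subgroupOf_right (normalizer ((S : Subgroup X) : Set X)),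
      relIndex_subgroupOf inf_le_right, ← he]
    refine relIndex_inf_eq (centralizer_le_normalizer _) inferInstance ?_
    refine (normalizer_le hO hS he hpe hK).trans (sup_le_sup_right ?_ _)
    exact inf_le_inf_right _ hKN
  have h5 := AbCount.card_principal hM (S.subtype hSN) hS' he' hpe (A.subgroupOf N)
    (by
      rw [Sylow.coe_subtype]
      intro a ha
      exact mem_subgroupOf.2 (hAS (mem_subgroupOf.1 ha)))
    (by
      intro a ha
      rw [mem_center_iff]
      intro g
      exact Subtype.ext (mem_center_iff.1 (hAc (mem_subgroupOf.1 ha)) g))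
    (fun u hu huA h => by
      rw [Sylow.coe_subtype, mem_subgroupOf] at hu
      rw [mem_subgroupOf] at huA
      refine not_centralized hO hS he hpe hK hu huA ?_
      intro n hn
      have h6 : (⟨n, hKN hn.1⟩ : N) ∈ centralizer ({u} : Set N) := by
        apply h
        rw [hnorm, mem_subgroupOf]
        exact hn.2
      rw [mem_centralizer_singleton_iff] at h6 ⊢
      exact congrArg Subtype.val h6)
  have hcA : Nat.card (A.subgroupOf N) = Nat.card A :=
    Nat.card_congr (subgroupOfEquivOfLe hAN).toEquiv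
  have hcS : Nat.card ((S.subtype hSN : Sylow 2 N) : Subgroup N) = Nat.card (S : Subgroup X) := by
    rw [Sylow.coe_subtype]
    exact Nat.card_congr (subgroupOfEquivOfLe hSN).toEquiv
  rw [hcA, hcS, ← h3, h4] at h5
  have hApos : 0 < Nat.card A := Nat.card_pos
  have h6 : blockRank 2 (principalBlock M X) = blockRank 2 (principalBlock M N) := by
    have h7 := Nat.add_right_cancel h5
    exact Nat.eq_of_mul_eq_mul_left hApos (Nat.eq_of_mul_eq_mul_left hpe.pos h7)
  -- the rank of `N`
  have hAn' : (A.subgroupOf N).Normal := inferInstance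
  have hKA : K ⊓ A = ⊥ := by
    rw [eq_bot_iff, ← AbStruct.inf_centralizer hO hS hK]
    refine inf_le_inf_left _ ?_
    rw [hA, ← inf_centralizer_eq hO hS he hpe hK]
    exact inf_le_right
  have h7 : blockRank 2 (principalBlock M N) =
      blockRank 2 (principalBlock M (N ⧸ A.subgroupOf N)) := by
    refine S4571.result 2 M hM (A.subgroupOf N) ?_ ?_
    · exact (Lib.Cores.pCore_isPGroup (G := X) 2).of_equiv (subgroupOfEquivOfLe hAN).symm
    · rw [eq_top_iff]
      refine le_trans ?_ le_sup_right
      intro g _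
      rw [mem_centralizer_iff]
      intro a ha
      exact Subtype.ext (mem_center_iff.1 (hAc (mem_subgroupOf.1 ha)) g).symm
  let f : K →* N ⧸ A.subgroupOf N := (QuotientGroup.mk' (A.subgroupOf N)).comp (inclusion hKN)
  have hf : Function.Bijective f := by
    constructor
    · rw [injective_iff_map_eq_one]
      intro k hk
      have h8 : (inclusion hKN k : N) ∈ A.subgroupOf N := (QuotientGroup.eq_one_iff _).1 hk
      have h9 : (k : X) ∈ K ⊓ A := ⟨k.2, mem_subgroupOf.1 h8⟩
      rw [hKA, mem_bot] at h9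
      exact Subtype.ext h9
    · intro q
      obtain ⟨n, rfl⟩ := QuotientGroup.mk_surjective q
      obtain ⟨k, hk, a, ha, hka⟩ := (mem_sup_of_normal_left (hs := hKn)).1 n.2
      refine ⟨⟨k, hk⟩, ?_⟩
      show (QuotientGroup.mk (inclusion hKN ⟨k, hk⟩) : N ⧸ A.subgroupOf N) = QuotientGroup.mk n
      rw [QuotientGroup.eq, mem_subgroupOf]
      show k⁻¹ * (n : X) ∈ A
      rw [← hka, inv_mul_cancel_left]
      exact ha
  have h8 : blockRank 2 (principalBlock M K) =
      blockRank 2 (principalBlock M (N ⧸ A.subgroupOf N)) :=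
    AbCount.rank_equiv (MulEquiv.ofBijective f hf)
  have h9 : blockRank 2 (principalBlock M X) = e := by rw [h6, h7, ← h8, h1]
  refine ⟨h9, ?_⟩
  have h10 : Nat.card (S : Subgroup X) = (e + 1) * Nat.card A := by
    rw [← card_mul hO hS he hpe hK, ← h2]
    congr 1
    rw [hP, ← inf_subgroupOf_right]
    exact (Nat.card_congr (subgroupOfEquivOfLe (inf_le_right :
      (S : Subgroup X) ⊓ K ≤ K)).toEquiv).symm
  rw [h9, h10] at h4
  rw [h10]
  have h11 : (e + 1) * Nat.card A - Nat.card A = e * Nat.card A := by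
    rw [Nat.succ_mul, Nat.add_sub_cancel]
  rw [h11, ← mul_add] at h4
  have h12 := Nat.eq_of_mul_eq_mul_left hpe.pos h4
  rw [h12]
  ring

end Cfsg.Agent.H595.AbTwo
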