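import Cfsg.Agent.H595.AbTwoB
import Cfsg.Agent.WeakTI.PslTwo
import Cfsg.Agent.Walter.TypeSylow
import Cfsg.Agent.H700.PRatExt
import Cfsg.Agent.H608.Klein
import Cfsg.Agent.S0969
import Cfsg.Agent.S2300
import Cfsg.Agent.S2331
import Cfsg.Agent.S4512
import Cfsg.Agent.S4652

/-!
# The principal `2`-block of the simple groups with abelian Sylow `2`-subgroups and prime inertial index
-/

set_option autoImplicit false
set_option linter.unusedSectionVars false

namespace Cfsg.Agent.H595.AbTwo

open Subgroup Cfsg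
open Cfsg.Agent.Walter
open Cfsg.Agent.Walter.Types

universe u

variable {M : Ideal AlgInt}

/-- every element of a subgroup that is a two group has order a power of two -/
theorem exists_pow {K : Type*} [Group K] (P : Sylow 2 K) {u : K} (hu : u ∈ (P : Subgroup K)) :
    ∃ k : ℕ, u ^ 2 ^ k = 1 := by
  obtain ⟨k, hk⟩ := P.2 ⟨u, hu⟩
  exact ⟨k, congrArg Subtype.val hk⟩

section sl

variable {F : Type u} [Field F] [Fintype F] [CharP F 2]

theorem two_dvd_card_sl : 2 ∣ Nat.card (Matrix.SpecialLinearGroup (Fin 2) F) := by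
  obtain ⟨f⟩ := WeakTI.PslTwo.nonempty_equiv (F := F)
  rw [Nat.card_congr f.toEquiv, Classification.PSLTwoEvenSylow.card_psl]
  obtain ⟨n, -, hn⟩ := FiniteField.card F 2
  exact Dvd.dvd.mul_right (by rw [hn]; exact dvd_pow_self 2 n.ne_zero) _

theorem factorization_card_sl : (Nat.card (Matrix.SpecialLinearGroup (Fin 2) F)).factorization 2 =
    (Fintype.card F).factorization 2 := by
  obtain ⟨f⟩ := WeakTI.PslTwo.nonempty_equiv (F := F)
  rw [Nat.card_congr f.toEquiv, Classification.PSLTwoEvenSylow.card_psl]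
  obtain ⟨n, -, hn⟩ := FiniteField.card F 2
  have h2 : 2 ∣ Fintype.card F := by rw [hn]; exact dvd_pow_self 2 n.ne_zero
  have h3 : 2 ≤ Fintype.card F := Fintype.one_lt_card
  have h4 : 4 ≤ Fintype.card F ^ 2 := by nlinarith
  rw [Nat.factorization_mul (by omega) (by omega), Finsupp.add_apply]
  have h5 : (Fintype.card F ^ 2 - 1).factorization 2 = 0 := by
    apply Nat.factorization_eq_zero_of_not_dvd
    intro h
    have h6 : 2 ∣ Fintype.card F ^ 2 := dvd_pow h2 two_ne_zero
    omega
  rw [h5, add_zero]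

theorem mem_principal_iff (hM : IsPModular 2 M)
    (χ : IrrCharacter (Matrix.SpecialLinearGroup (Fin 2) F)) :
    χ ∈ principalBlock M (Matrix.SpecialLinearGroup (Fin 2) F) ↔
      ¬ (χ : Matrix.SpecialLinearGroup (Fin 2) F → ℂ) 1 = (Fintype.card F : ℂ) := by
  classical
  have : Fact (Nat.Prime 2) := ⟨Nat.prime_two⟩
  have hMp : M.IsPrime := hM.2.1.isPrime
  obtain ⟨f⟩ := WeakTI.PslTwo.nonempty_equiv (F := F)
  obtain ⟨n, -, hn⟩ := FiniteField.card F 2
  have h2 : 2 ∣ Fintype.card F := by rw [hn]; exact dvd_pow_self 2 n.ne_zero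
  have h2q : 2 ≤ Fintype.card F := Fintype.one_lt_card
  constructor
  · intro h hd
    have h1 := S0969.result 2 M hM (⊥ : Subgroup (Matrix.SpecialLinearGroup (Fin 2) F))
      IsPGroup.of_bot bot_le χ (by
        rw [index_bot, factorization_card_sl, Blocks.Basic.charDegree_of_eq hd])
    have h3 : blockOf M (χ : Matrix.SpecialLinearGroup (Fin 2) F → ℂ) =
        principalBlock M (Matrix.SpecialLinearGroup (Fin 2) F) :=
      (Blocks.Basic.blockOf_eq_of_sameBlock h).symm
    rw [h3, S4652.result 2 M hM] at h1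
    obtain ⟨⟨S, hS⟩, -⟩ := h1
    have h4 := S.not_dvd_index
    rw [hS, index_bot] at h4
    exact h4 two_dvd_card_sl
  · intro hd
    obtain ⟨P⟩ : Nonempty (Sylow 2 (Matrix.SpecialLinearGroup (Fin 2) F)) := inferInstance
    refine H700.PRatExt.mem_principalBlock_of_pregular hM P.2 χ ?_ ?_
    · rcases (S2300.result (F := F)).1 _ χ.2 with h | h | h | h
      · rw [Blocks.Basic.charDegree_of_eq (n := 1) (by rw [h, Nat.cast_one])]
        norm_num
      · rw [Blocks.Basic.charDegree_of_eq (n := Fintype.card F - 1) (by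
          rw [h, Nat.cast_sub (by omega), Nat.cast_one])]
        omega
      · exact absurd h hd
      · rw [Blocks.Basic.charDegree_of_eq (n := Fintype.card F + 1) (by
          rw [h, Nat.cast_add, Nat.cast_one])]
        omega
    · intro x hx hxo
      have hPne : (P : Subgroup (Matrix.SpecialLinearGroup (Fin 2) F)) ≠ ⊥ := by
        intro h
        have h4 := P.not_dvd_index
        rw [h, index_bot] at h4
        exact h4 two_dvd_card_sl
      obtain ⟨u, huP, hu1⟩ := (bot_or_exists_ne_one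
        (P : Subgroup (Matrix.SpecialLinearGroup (Fin 2) F))).resolve_left hPne
      obtain ⟨k, hk⟩ := exists_pow P huP
      have huu := WeakTI.PslTwo.mul_self f hk
      have hxx := WeakTI.PslTwo.cent f huu hu1 (mem_centralizer_iff.1 hx u huP)
      have h5 : orderOf x ∣ 2 := orderOf_dvd_of_pow_eq_one (by rw [pow_two, hxx])
      have h6 : orderOf x = 1 := by
        rcases (Nat.dvd_prime Nat.prime_two).1 h5 with h6 | h6
        · exact h6
        · exact absurd (by rw [h6]) hxo
      rw [orderOf_eq_one_iff.1 h6, sub_self]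
      exact Blocks.Local.memLocalIdeal_zero

theorem card_principal_sl (hM : IsPModular 2 M) (h4 : 4 ≤ Fintype.card F) :
    Nat.card (principalBlock M (Matrix.SpecialLinearGroup (Fin 2) F)) = Fintype.card F := by
  classical
  have hfin : Finite (IrrCharacter (Matrix.SpecialLinearGroup (Fin 2) F)) :=
    Characters.Core.finite_irr
  have h1 := ((S2300.result (F := F)).2 h4).2.1
  have h2 := S2331.result (F := F)
  rw [← Characters.Core.card_irr] at h2
  set Z : Set (IrrCharacter (Matrix.SpecialLinearGroup (Fin 2) F)) :=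
    {χ | (χ : Matrix.SpecialLinearGroup (Fin 2) F → ℂ) 1 = (Fintype.card F : ℂ)} with hZ
  have h3 : principalBlock M (Matrix.SpecialLinearGroup (Fin 2) F) = Zᶜ := by
    ext χ
    rw [mem_principal_iff hM χ]
    rfl
  have h5 : Z.ncard = 1 := by
    rw [← h1]; rfl
  have h6 := Set.ncard_add_ncard_compl Z
  rw [h3, Nat.card_coe_set_eq]
  omega

end sl

section simple

variable {K : Type*} [Group K] [Finite K] {e : ℕ}

theorem counting (hM : IsPModular 2 M) (hK : IsSimpleGroup K)
    (hKc : ¬ IsMulCommutative K) (P : Sylow 2 K)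
    (hP : ∀ a ∈ (P : Subgroup K), ∀ b ∈ (P : Subgroup K), a * b = b * a)
    (he : (centralizer ((P : Subgroup K) : Set K)).relIndex
      (normalizer ((P : Subgroup K) : Set K)) = e) (hpe : e.Prime) :
    e * Nat.card (principalBlock M K) =
      e * blockRank 2 (principalBlock M K) + (Nat.card (P : Subgroup K) - 1) := by
  have : Fact (Nat.Prime 2) := ⟨Nat.prime_two⟩
  have h := AbCount.card_principal hM P hP he hpe ⊥ bot_le bot_le (fun u hu hu1 =>
    not_centralized_simple hK hKc P hP hu (fun h => hu1 (mem_bot.2 h)))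
  rwa [Subgroup.card_bot, one_mul] at h

theorem simple_even (hM : IsPModular 2 M) (hK : IsSimpleGroup K)
    (hKc : ¬ IsMulCommutative K) (P : Sylow 2 K)
    (hP : ∀ a ∈ (P : Subgroup K), ∀ b ∈ (P : Subgroup K), a * b = b * a)
    (he : (centralizer ((P : Subgroup K) : Set K)).relIndex
      (normalizer ((P : Subgroup K) : Set K)) = e) (hpe : e.Prime) (h : IsEvenType K) :
    blockRank 2 (principalBlock M K) = e ∧ Nat.card (P : Subgroup K) = e + 1 := by
  have : Fact (Nat.Prime 2) := ⟨Nat.prime_two⟩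
  obtain ⟨F, i1, i2, n, hn, hF, ⟨g⟩⟩ := h
  have hcp : CharP F 2 := by
    obtain ⟨p, hp⟩ := CharP.exists F
    have hpp : p.Prime := CharP.char_is_prime F p
    have h1 : p ∣ Fintype.card F := by
      rw [← CharP.cast_eq_zero_iff F p]
      exact FiniteField.cast_card_eq_zero F
    rw [hF] at h1
    have h2 := (Nat.prime_dvd_prime_iff_eq hpp Nat.prime_two).1 (hpp.dvd_of_dvd_pow h1)
    rwa [h2] at hp
  have hPc := TypeSylow.card_sylow_even hF g P
  have h4 : 4 ≤ Fintype.card F := by
    rw [hF]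
    calc 4 = 2 ^ 2 := by norm_num
      _ ≤ 2 ^ n := Nat.pow_le_pow_right (by norm_num) hn
  rw [← hF] at hPc
  -- the inertial index
  have hPne : (P : Subgroup K) ≠ ⊥ := by
    intro h
    rw [h, Subgroup.card_bot] at hPc
    omega
  obtain ⟨u, huP, hu1⟩ := (P : Subgroup K).bot_or_exists_ne_one.resolve_left hPne
  have hsq : ∀ v ∈ (P : Subgroup K), v * v = 1 := by
    intro v hv
    obtain ⟨k, hk⟩ := exists_pow P hv
    exact WeakTI.PslTwo.mul_self g hk
  have h5 := AbCount.ncard_conj P hP huP he hpe (not_centralized_simple hK hKc P hP huP hu1)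
  have h6 : {v : K | v ∈ (P : Subgroup K) ∧ IsConj v u} = ((P : Subgroup K) : Set K) \ {1} := by
    ext v
    constructor
    · rintro ⟨h7, h8⟩
      refine ⟨h7, fun h9 => hu1 ?_⟩
      rw [Set.mem_singleton_iff] at h9
      rw [h9] at h8
      exact isConj_one_right.1 h8
    · rintro ⟨h7, h8⟩
      refine ⟨h7, isConj_iff.2 ?_⟩
      exact WeakTI.PslTwo.exists_conj g (hsq v h7) h8 (hsq u huP) hu1
  rw [h6, Set.ncard_sdiff_singleton_of_mem (one_mem (P : Subgroup K)), ← Nat.card_coe_set_eq] at h5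
  have h7 : Nat.card (P : Subgroup K) = e + 1 := by
    have h8 : 0 < Nat.card (P : Subgroup K) := Nat.card_pos
    have h9 : Nat.card (P : Subgroup K) - 1 = e := h5
    omega
  refine ⟨?_, h7⟩
  have h8 := counting hM hK hKc P hP he hpe
  obtain ⟨f⟩ := WeakTI.PslTwo.nonempty_equiv (F := F)
  rw [AbCount.card_equiv (g.trans f.symm), card_principal_sl hM h4, ← hPc, h7] at h8
  have h9 : e + 1 - 1 = e * 1 := by omega
  rw [h9, ← mul_add] at h8
  have h10 := Nat.eq_of_mul_eq_mul_left hpe.pos h8
  omega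

theorem simple_odd (hM : IsPModular 2 M) (hK : IsSimpleGroup K)
    (hKc : ¬ IsMulCommutative K) (P : Sylow 2 K)
    (hP : ∀ a ∈ (P : Subgroup K), ∀ b ∈ (P : Subgroup K), a * b = b * a)
    (he : (centralizer ((P : Subgroup K) : Set K)).relIndex
      (normalizer ((P : Subgroup K) : Set K)) = e) (hpe : e.Prime) (h : IsOddType K) :
    blockRank 2 (principalBlock M K) = e ∧ Nat.card (P : Subgroup K) = e + 1 := by
  have : Fact (Nat.Prime 2) := ⟨Nat.prime_two⟩
  obtain ⟨F, i1, i2, hF, h5, ⟨g⟩⟩ := h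
  have hPc := TypeSylow.card_sylow_odd hF g P
  have hN : ¬ normalizer ((P : Subgroup K) : Set K) ≤ centralizer ((P : Subgroup K) : Set K) := by
    intro h
    rw [← relIndex_eq_one, he] at h
    exact hpe.ne_one h
  have h2' : 2 ∣ Nat.card (P : Subgroup K) := ⟨2, by rw [hPc]⟩
  have h2 : 2 ∣ Nat.card K := h2'.trans (P : Subgroup K).card_subgroup_dvd_card
  have hkl : IsKleinFour (P : Subgroup K) :=
    SmallSimple.KleinFourAut.isKleinFour_of_not_isCyclic hPc fun hc =>
      hN (hc.normalizer_le_centralizer ((Nat.minFac_eq_two_iff _).2 h2))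
  have h1 := S4512.result M hM P hPc (fun x => IsKleinFour.mul_self x)
    (H608.Klein.one_class P hkl hN)
  have h8 := counting hM hK hKc P hP he hpe
  rw [h1, hPc] at h8
  have h9 : e ∣ 3 := by
    rw [← Nat.dvd_add_right (Dvd.intro 3 rfl : e ∣ e * 3), ← h8]
    exact Dvd.intro _ rfl
  have h10 : e = 3 := (Nat.prime_dvd_prime_iff_eq hpe Nat.prime_three).1 h9
  rw [h1, hPc, h10]
  exact ⟨rfl, rfl⟩

end simple

theorem isSolvable_of_hnc
    (hodd : ∀ (Y : Type u) [Group Y] [Finite Y], Odd (Nat.card Y) → Group.IsSolvable Y)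
    {C : Type u} [Group C] [Finite C] (h : HasNormalPComplement 2 C) : Group.IsSolvable C := by
  have : Fact (Nat.Prime 2) := ⟨Nat.prime_two⟩
  obtain ⟨Q, N, hN, hc⟩ := h
  have h1 : N.index = Nat.card (Q : Subgroup C) := hc.symm.index_eq_card
  obtain ⟨k, hk⟩ := IsPGroup.iff_card.1 Q.2
  have h2 : Group.IsSolvable (C ⧸ N) := by
    have h3 : IsPGroup 2 (C ⧸ N) := IsPGroup.of_card (n := k) (h1.trans hk)
    have := h3.isNilpotent
    infer_instance
  have h3 : Group.IsSolvable N := by
    apply hodd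
    have h4 := hc.index_eq_card
    rw [← Nat.not_even_iff_odd, even_iff_two_dvd, ← h4]
    exact Q.not_dvd_index
  exact Group.isSolvable_of_ker_le_range N.subtype (QuotientGroup.mk' N) (by simp)

theorem simple_JR (hodd : ∀ (Y : Type u) [Group Y] [Finite Y], Odd (Nat.card Y) → Group.IsSolvable Y)
    {K : Type u} [Group K] [Finite K] {e : ℕ} (hK : IsSimpleGroup K)
    (hKc : ¬ IsMulCommutative K) (P : Sylow 2 K)
    (hP : ∀ a ∈ (P : Subgroup K), ∀ b ∈ (P : Subgroup K), a * b = b * a)
    (he : (centralizer ((P : Subgroup K) : Set K)).relIndex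
      (normalizer ((P : Subgroup K) : Set K)) = e) (hpe : e.Prime) : ¬ IsJR K := by
  intro h
  have : Fact (Nat.Prime 2) := ⟨Nat.prime_two⟩
  obtain ⟨h8, hsq⟩ := TypeSylow.card_sylow_JR h P
  have hPne : (P : Subgroup K) ≠ ⊥ := by
    intro h
    rw [h, Subgroup.card_bot] at h8
    omega
  obtain ⟨t, htP, ht1⟩ := (bot_or_exists_ne_one (P : Subgroup K)).resolve_left hPne
  have ht2 : orderOf t = 2 := orderOf_eq_prime (by rw [pow_two, hsq t htP]) ht1
  have h1 := isSolvable_of_hnc hodd
    (AbCount.hnc_centralizer P hP htP he hpe (not_centralized_simple hK hKc P hP htP ht1))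
  obtain ⟨-, F, i1, i2, -, h5, hc⟩ := h
  obtain ⟨g⟩ := hc t ht2
  have h2 : Group.IsSolvable (Multiplicative (ZMod 2) × Matrix.ProjectiveSpecialLinearGroup (Fin 2) F) :=
    Group.isSolvable_of_surjective (f := g.toMonoidHom) g.surjective
  have h3 : Group.IsSolvable (Matrix.ProjectiveSpecialLinearGroup (Fin 2) F) :=
    Group.isSolvable_of_surjective
      (f := MonoidHom.snd (Multiplicative (ZMod 2)) (Matrix.ProjectiveSpecialLinearGroup (Fin 2) F))
      Prod.snd_surjective
  exact ClassicalGeometry.PSL2Solvable.not_isSolvable_psl F (by omega) h3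

end Cfsg.Agent.H595.AbTwo
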