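import Cfsg.Agent.H595.AbTwo
import Cfsg.Agent.Characters.CCBasic
import Cfsg.Agent.SmallSimple.S1000.OneBlock

/-!
# Solvable groups with `O(X) = 1`, abelian Sylow `2`-subgroups and prime inertial index
-/

set_option autoImplicit false
set_option linter.unusedSectionVars false

namespace Cfsg.Agent.H595.AbTwo

open Subgroup Cfsg
open Cfsg.Agent.SignalizersComponents
open Cfsg.Agent.SignalizersComponents.Components
open Cfsg.Agent.Walter
open Cfsg.Agent.Walter.Types

universe u

variable {M : Ideal AlgInt}
variable {X : Type u} [Group X] [Finite X] {S : Sylow 2 X} {K L : Subgroup X} {e : ℕ}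

theorem rank_solvable (hM : IsPModular 2 M) (hO : pPrimeCore 2 X = ⊥)
    (hS : ∀ a ∈ (S : Subgroup X), ∀ b ∈ (S : Subgroup X), a * b = b * a)
    (hs : Group.IsSolvable X)
    (he : (centralizer ((S : Subgroup X) : Set X)).relIndex
      (normalizer ((S : Subgroup X) : Set X)) = e) (hpe : e.Prime) :
    blockRank 2 (principalBlock M X) = e := by
  have : Fact (Nat.Prime 2) := ⟨Nat.prime_two⟩
  have hl : layer X = ⊥ := by
    rw [layer, eq_bot_iff]
    refine sSup_le (fun K hK => ?_)
    exfalso
    have h1 : Group.IsSolvable K := inferInstance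
    exact quasisimple_not_isSolvable hK.2 h1
  have h1 := AbStruct.genFitting_eq hO
  rw [hl, sup_bot_eq] at h1
  have h2 := AbStruct.sylow_le hO hS
  rw [h1] at h2
  have hSA : (S : Subgroup X) = pCore 2 X := le_antisymm h2 (Lib.Cores.pCore_le_sylow S)
  have hn : (S : Subgroup X).Normal := by rw [hSA]; exact Lib.Cores.pCore_normal 2
  have hcS : centralizer ((S : Subgroup X) : Set X) = S := by
    apply le_antisymm
    · have h3 := TwoFusion.FStarControl.centralizer_genFitting_le_fitting (H := X)
      rwa [h1, BalanceAux.fitting_eq_pCore 2 hO, ← hSA] at h3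
    · intro s hs'
      rw [mem_centralizer_iff]
      intro t ht
      exact hS t ht s hs'
  have hidx : (S : Subgroup X).index = e := by
    rw [hcS, normalizer_eq_top_iff.2 hn, relIndex_top_right] at he
    exact he
  have hcard : Nat.card (X ⧸ (S : Subgroup X)) = e := hidx
  have h3 := NormalRank.rank_normal_sylow (S : Subgroup X) S.2 S.not_dvd_index
    (principalBlock M X) (fun θ => SmallSimple.S1000.OneBlock.mem_principal_of_solvable hM hO _)
  rw [h3]
  have := Fact.mk hpe
  have hcyc : IsCyclic (X ⧸ (S : Subgroup X)) := isCyclic_of_prime_card hcard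
  rw [Characters.CCBasic.card_irr_of_comm (fun a b => ?_), hcard]
  obtain ⟨g, hg⟩ := hcyc.exists_generator
  obtain ⟨m, rfl⟩ := mem_zpowers_iff.1 (hg a)
  obtain ⟨n, rfl⟩ := mem_zpowers_iff.1 (hg b)
  exact zpow_mul_comm g m n

end Cfsg.Agent.H595.AbTwo
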