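import Cfsg.Agent.H595.AbTwoC
import Cfsg.Agent.H595.AbTwoSolv
import Cfsg.Agent.H595.AbTwoSimple
import Cfsg.Agent.S3800
import Cfsg.Agent.S0205
import Cfsg.Agent.Walter.StepAll

/-!
# The principal `2`-block of a group with abelian Sylow `2`-subgroups and prime inertial index
-/

set_option autoImplicit false
set_option linter.unusedSectionVars false

namespace Cfsg.Agent.H595.AbTwo

open Subgroup Cfsg
open Cfsg.Agent.SignalizersComponents
open Cfsg.Agent.SignalizersComponents.Components
open Cfsg.Agent.Walter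
open Cfsg.Agent.Walter.Types

universe u

variable {M : Ideal AlgInt}

theorem oddSolv : H306.AbSolv.OddSolv.{u} := fun _ _ _ h => Cfsg.Agent.S0205.result h

/-- the statement for `O(X) = 1` -/
theorem main_core {X : Type u} [Group X] [Finite X] (S : Sylow 2 X) {e : ℕ}
    (hM : IsPModular 2 M) (hO : pPrimeCore 2 X = ⊥)
    (hS : ∀ a ∈ (S : Subgroup X), ∀ b ∈ (S : Subgroup X), a * b = b * a)
    (he : (centralizer ((S : Subgroup X) : Set X)).relIndex
      (normalizer ((S : Subgroup X) : Set X)) = e) (hpe : e.Prime) :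
    blockRank 2 (principalBlock M X) = e ∧
      (¬ Group.IsSolvable X → Nat.card (principalBlock M X) = Nat.card (S : Subgroup X)) := by
  by_cases hs : Group.IsSolvable X
  · exact ⟨rank_solvable hM hO hS hs he hpe, fun h => absurd hs h⟩
  obtain ⟨K, hK⟩ := exists_component oddSolv hO hS hs
  obtain ⟨P, hP⟩ := AbStruct.exists_sylow S hK
  have hPc : ∀ a ∈ (P : Subgroup K), ∀ b ∈ (P : Subgroup K), a * b = b * a := by
    rw [hP]; exact AbStruct.comm_subgroupOf hS
  have hsimp := AbStruct.isSimpleGroup hO hS hK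
  have hnc := AbStruct.not_comm hK
  have he' := relIndex_component hO hS he hpe hK P hP
  have hW : WType K := Cfsg.Agent.Walter.Main.wType_of_step Cfsg.Agent.Walter.StepAll.step K
    hsimp hnc P hPc
  have key : blockRank 2 (principalBlock M K) = e ∧ Nat.card (P : Subgroup K) = e + 1 := by
    rcases hW with h | h | h
    · exact simple_even hM hsimp hnc P hPc he' hpe h
    · exact simple_odd hM hsimp hnc P hPc he' hpe h
    · exact absurd h (simple_JR oddSolv hsimp hnc P hPc he' hpe)
  have := rank_card hM hO hS he hpe hK P hP key.1 key.2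
  exact ⟨this.1, fun _ => this.2⟩

/-- `|N(P) : C(P)|` and `G / N`, `N` a normal `p'`-subgroup -/
theorem relIndex_quot {G : Type*} [Group G] [Finite G] {p : ℕ} [Fact p.Prime] (N : Subgroup G)
    [N.Normal] (hN : (Nat.card N).Coprime p) (P : Subgroup G) (hP : IsPGroup p P) :
    (centralizer ((P.map (QuotientGroup.mk' N)) : Set (G ⧸ N))).relIndex
      (normalizer ((P.map (QuotientGroup.mk' N)) : Set (G ⧸ N))) =
      (centralizer (P : Set G)).relIndex (normalizer (P : Set G)) := by
  obtain ⟨h1, h2⟩ := S3800.result N hN P hP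
  rw [h1, h2]
  have hCN : centralizer (P : Set G) ≤ normalizer (P : Set G) := centralizer_le_normalizer _
  -- `N ∩ N(P) ≤ C(P)`
  have h3 : N ⊓ normalizer (P : Set G) ≤ centralizer (P : Set G) := by
    intro n hn
    rw [mem_centralizer_iff]
    intro x hx
    have h4 : n * x * n⁻¹ * x⁻¹ ∈ N ⊓ P := by
      constructor
      · have h5 : x * n⁻¹ * x⁻¹ ∈ N := ‹N.Normal›.conj_mem _ (inv_mem hn.1) x
        have h6 : n * x * n⁻¹ * x⁻¹ = n * (x * n⁻¹ * x⁻¹) := by group
        rw [h6]
        exact mul_mem hn.1 h5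
      · exact P.mul_mem ((mem_normalizer_iff.1 hn.2 x).1 hx) (P.inv_mem hx)
    have h5 : N ⊓ P = ⊥ := by
      apply Disjoint.eq_bot
      apply Subgroup.disjoint_of_coprime_natCard
      obtain ⟨k, hk⟩ := IsPGroup.iff_card.1 hP
      rw [hk]
      exact Nat.Coprime.pow_right k hN
    rw [h5, mem_bot] at h4
    have h6 : n * x * n⁻¹ = x := by
      rw [← mul_inv_eq_one]; exact h4
    rw [← mul_inv_eq_iff_eq_mul.1 h6]
  rw [← relIndex_comap, comap_map_eq, QuotientGroup.ker_mk', ← inf_relIndex_right]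
  congr 1
  apply le_antisymm
  · rintro x ⟨hx1, hx2⟩
    obtain ⟨c, hc, n, hn, rfl⟩ := (mem_sup_of_normal_right (ht := ‹N.Normal›)).1 hx1
    refine mul_mem hc (h3 ⟨hn, ?_⟩)
    have h7 := mul_mem (inv_mem (hCN hc)) hx2
    rwa [inv_mul_cancel_left] at h7
  · exact le_inf le_sup_left hCN

/-- **Principal block, abelian Sylow `2`-subgroups, prime inertial index.** -/
theorem main {G : Type u} [Group G] [Finite G] (P : Sylow 2 G) (hM : IsPModular 2 M)
    (hab : IsMulCommutative (P : Subgroup G))
    (hpe : ((centralizer ((P : Subgroup G) : Set G)).relIndex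
      (normalizer ((P : Subgroup G) : Set G))).Prime) :
    blockRank 2 (principalBlock M G) = (centralizer ((P : Subgroup G) : Set G)).relIndex
      (normalizer ((P : Subgroup G) : Set G)) ∧
      (¬ Group.IsSolvable G → Nat.card (principalBlock M G) = Nat.card (P : Subgroup G)) := by
  have : Fact (Nat.Prime 2) := ⟨Nat.prime_two⟩
  have hn : (pPrimeCore 2 G).Normal := Lib.Cores.pPrimeCore_normal 2
  have hco : (Nat.card (pPrimeCore 2 G)).Coprime 2 := Lib.Cores.pPrimeCore_coprime 2
  have hnd : ¬ 2 ∣ Nat.card (pPrimeCore 2 G) := by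
    rw [← Nat.Prime.coprime_iff_not_dvd Nat.prime_two]
    exact hco.symm
  let S : Sylow 2 (G ⧸ pPrimeCore 2 G) :=
    P.mapSurjective (QuotientGroup.mk'_surjective (pPrimeCore 2 G))
  have hSc : (S : Subgroup (G ⧸ pPrimeCore 2 G)) =
      (P : Subgroup G).map (QuotientGroup.mk' (pPrimeCore 2 G)) := rfl
  have hS := TypeSylow.comm_of_surjective (Main.comm_of_isMulCommutative hab)
    (QuotientGroup.mk'_surjective (pPrimeCore 2 G)) S
  have he : (centralizer ((S : Subgroup (G ⧸ pPrimeCore 2 G)) : Set (G ⧸ pPrimeCore 2 G))).relIndex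
      (normalizer ((S : Subgroup (G ⧸ pPrimeCore 2 G)) : Set (G ⧸ pPrimeCore 2 G))) =
      (centralizer ((P : Subgroup G) : Set G)).relIndex
      (normalizer ((P : Subgroup G) : Set G)) := relIndex_quot (pPrimeCore 2 G) hco P P.2
  have hcard : Nat.card (S : Subgroup (G ⧸ pPrimeCore 2 G)) = Nat.card (P : Subgroup G) := by
    rw [hSc, ← relIndex_ker, QuotientGroup.ker_mk']
    have h1 : (pPrimeCore 2 G) ⊓ (P : Subgroup G) = ⊥ := by
      apply Disjoint.eq_bot
      apply Subgroup.disjoint_of_coprime_natCard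
      obtain ⟨k, hk⟩ := IsPGroup.iff_card.1 P.2
      rw [hk]
      exact Nat.Coprime.pow_right k hco
    rw [← inf_relIndex_right, h1, relIndex_bot_left]
  obtain ⟨h1, h2⟩ := main_core S hM (Lib.Cores.pPrimeCore_quotient_pPrimeCore 2) hS he hpe
  refine ⟨(NormalRank.rank_quot hM _ hnd).trans h1, fun hs => ?_⟩
  rw [NormalRank.card_quot hM _ hnd, ← hcard]
  apply h2
  intro h
  apply hs
  have h3 : Group.IsSolvable (pPrimeCore 2 G) := oddSolv _ (Nat.coprime_two_right.1 hco)
  exact Group.isSolvable_of_ker_le_range (pPrimeCore 2 G).subtype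
    (QuotientGroup.mk' (pPrimeCore 2 G)) (by simp)

end Cfsg.Agent.H595.AbTwo
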