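import Cfsg.Agent.Characters.Core
import Cfsg.Agent.S0187

/-!
# Characters of abelian groups of absolute value one outside the identity

* `comb` : integers `a i` (`n` of them) with `n ∑ a² - (∑ a)² = n - 1` are `m + ε δ_{i, i₀}`;
* `char_form` : a character of an abelian group of absolute value one outside `1` is
  `m ρ + ε μ`, `ρ` the regular and `μ` a linear character.
-/

set_option autoImplicit false
set_option linter.unusedSectionVars false

namespace Cfsg.Agent.H595.CycForm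

open Cfsg
open scoped ComplexConjugate
open Cfsg.Agent.Characters.Core

theorem comb {ι : Type*} [Fintype ι] [DecidableEq ι] (a : ι → ℤ) (h2 : 2 ≤ Fintype.card ι)
    (h : (Fintype.card ι : ℤ) * ∑ i, a i ^ 2 - (∑ i, a i) ^ 2 = Fintype.card ι - 1) :
    ∃ (m ε : ℤ) (i₀ : ι), (ε = 1 ∨ ε = -1) ∧ ∀ i, a i = m + if i = i₀ then ε else 0 := by
  set n : ℤ := (Fintype.card ι : ℤ) with hn
  have hn2 : (2 : ℤ) ≤ n := by rw [hn]; exact_mod_cast h2
  -- the double sum
  have h1 : ∑ i, ∑ j, (a i - a j) ^ 2 = 2 * (n - 1) := by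
    have h3 : ∀ i, ∑ j, (a i - a j) ^ 2 = n * a i ^ 2 - 2 * a i * ∑ j, a j + ∑ j, a j ^ 2 := by
      intro i
      rw [Finset.mul_sum]
      have h4 : n * a i ^ 2 = ∑ _j : ι, a i ^ 2 := by
        rw [Finset.sum_const, nsmul_eq_mul, hn, Finset.card_univ]
      rw [h4, ← Finset.sum_sub_distrib, ← Finset.sum_add_distrib]
      exact Finset.sum_congr rfl fun j _ => by ring
    simp only [h3]
    rw [Finset.sum_add_distrib, Finset.sum_sub_distrib, Finset.sum_const, nsmul_eq_mul,
      Finset.card_univ, ← Finset.mul_sum, ← Finset.sum_mul, ← Finset.mul_sum, ← hn]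
    linear_combination 2 * h
  -- some row is small
  obtain ⟨i, hi⟩ : ∃ i, ∑ j, (a i - a j) ^ 2 ≤ 1 := by
    by_contra hcon
    push Not at hcon
    have h3 : ∑ _i : ι, (2 : ℤ) ≤ ∑ i, ∑ j, (a i - a j) ^ 2 :=
      Finset.sum_le_sum fun i _ => hcon i
    rw [Finset.sum_const, nsmul_eq_mul, Finset.card_univ, h1, ← hn] at h3
    linarith
  have hnn : ∀ j, 0 ≤ (a i - a j) ^ 2 := fun j => sq_nonneg _
  by_cases hall : ∀ j, a j = a i
  · exfalso
    have h3 : ∑ i, ∑ j, (a i - a j) ^ 2 = 0 := by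
      refine Finset.sum_eq_zero fun k _ => Finset.sum_eq_zero fun j _ => ?_
      rw [hall k, hall j]
      ring
    rw [h1] at h3
    linarith
  · push Not at hall
    obtain ⟨j, hj⟩ := hall
    have hj1 : 1 ≤ (a i - a j) ^ 2 := by
      have : a i - a j ≠ 0 := sub_ne_zero.2 (Ne.symm hj)
      have h5 : 0 < (a i - a j) ^ 2 := by positivity
      linarith
    rw [← Finset.add_sum_erase _ _ (Finset.mem_univ j)] at hi
    have h6 : 0 ≤ ∑ k ∈ Finset.univ.erase j, (a i - a k) ^ 2 :=
      Finset.sum_nonneg fun k _ => hnn k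
    have h7 : ∑ k ∈ Finset.univ.erase j, (a i - a k) ^ 2 = 0 := by linarith
    have h8 : (a i - a j) ^ 2 = 1 := by linarith
    have h9 : ∀ k, k ≠ j → a k = a i := by
      intro k hk
      have h10 := (Finset.sum_eq_zero_iff_of_nonneg (fun k _ => hnn k)).1 h7 k
        (Finset.mem_erase.2 ⟨hk, Finset.mem_univ k⟩)
      have h11 : a i - a k = 0 := by
        exact pow_eq_zero_iff (n := 2) (by norm_num) |>.1 h10
      linarith
    refine ⟨a i, a j - a i, j, ?_, fun k => ?_⟩
    · have h12 : (a j - a i - 1) * (a j - a i + 1) = 0 := by nlinarith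
      rcases mul_eq_zero.1 h12 with h13 | h13
      · left; linarith
      · right; linarith
    · by_cases hk : k = j
      · subst hk
        rw [if_pos rfl]
        ring
      · rw [if_neg hk, add_zero, h9 k hk]

/-- The sum of the irreducible characters of an abelian group. -/
theorem sum_irr {S : Type*} [Group S] [Fintype S] [Fintype (IrrCharacter S)] [DecidableEq S]
    (hab : ∀ x y : S, x * y = y * x) (t : S) :
    ∑ χ : IrrCharacter S, (χ : S → ℂ) t = if t = 1 then (Nat.card S : ℂ) else 0 := by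
  have h1 : ∀ χ : IrrCharacter S, (χ : S → ℂ) 1 = 1 := Cfsg.Agent.S0187.result.1 hab
  let f : S → ℂ := fun x => if x = 1 then (Nat.card S : ℂ) else 0
  have hf : IsClassFunction S f := by
    intro g k
    have h2 : k * g * k⁻¹ = g := by rw [hab k g, mul_inv_cancel_right]
    rw [h2]
  have h2 := congrFun (classFunction_eq_sum hf) t
  have h3 : ∀ χ : IrrCharacter S, classInner f (χ : S → ℂ) = 1 := by
    intro χ
    rw [classInner_def, Finset.sum_eq_single (1 : S)]
    · show (Nat.card S : ℂ)⁻¹ * ((if (1 : S) = 1 then (Nat.card S : ℂ) else 0) * _) = 1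
      rw [if_pos rfl, h1, map_one, mul_one, inv_mul_cancel₀ card_ne_zero_complex]
    · intro b _ hb
      show (if b = 1 then (Nat.card S : ℂ) else 0) * _ = 0
      rw [if_neg hb, zero_mul]
    · intro h; exact absurd (Finset.mem_univ _) h
  show _ = f t
  rw [h2, Finset.sum_apply]
  refine Finset.sum_congr rfl fun χ _ => ?_
  rw [h3, one_smul]

/-- **Characters of absolute value one outside the identity.** -/
theorem char_form {S : Type*} [Group S] [Finite S] (hab : ∀ x y : S, x * y = y * x)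
    (h2 : 2 ≤ Nat.card S) {D : S → ℂ} (hD : IsCharacter S D)
    (h : ∀ t, t ≠ 1 → D t * conj (D t) = 1) :
    ∃ (m : ℕ) (ε : ℤ) (μ : IrrCharacter S), (ε = 1 ∨ ε = -1) ∧ (μ : S → ℂ) 1 = 1 ∧
      (∀ t, t ≠ 1 → D t = (ε : ℂ) * (μ : S → ℂ) t) ∧ D 1 = (Nat.card S : ℂ) * m + ε := by
  classical
  have := Fintype.ofFinite S
  have : Finite (IrrCharacter S) := finite_irr
  have := Fintype.ofFinite (IrrCharacter S)
  have hlin : ∀ χ : IrrCharacter S, (χ : S → ℂ) 1 = 1 := Cfsg.Agent.S0187.result.1 hab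
  have hcard : Fintype.card (IrrCharacter S) = Nat.card S := by
    have h1 := sum_irr hab (1 : S)
    rw [if_pos rfl, Finset.sum_congr rfl fun χ _ => hlin χ, Finset.sum_const, nsmul_eq_mul,
      mul_one, Finset.card_univ] at h1
    exact_mod_cast h1
  obtain ⟨c, hc⟩ := exists_nat_comb hD
  have hD1 : D 1 = ((∑ χ, c χ : ℕ) : ℂ) := by
    rw [hc, Finset.sum_apply, Nat.cast_sum]
    refine Finset.sum_congr rfl fun χ _ => ?_
    rw [Pi.smul_apply, hlin, nsmul_eq_mul, mul_one]
  have hcs : ∀ χ : IrrCharacter S, classInner D (χ : S → ℂ) = c χ := fun χ => by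
    rw [hc, classInner_sum_nsmul_irr]
  have hn0 : (Nat.card S : ℂ) ≠ 0 := card_ne_zero_complex
  -- the norm of `D`
  have hnorm : (Nat.card S : ℂ) * ((∑ χ, c χ ^ 2 : ℕ) : ℂ) = (D 1) ^ 2 + (Nat.card S - 1) := by
    have h3 : classInner D D = ((∑ χ, c χ ^ 2 : ℕ) : ℂ) := by
      have h4 : D = ∑ χ : IrrCharacter S, (c χ : ℂ) • (χ : S → ℂ) := by
        conv_lhs => rw [hc]
        refine Finset.sum_congr rfl fun χ _ => ?_
        rw [Nat.cast_smul_eq_nsmul]
      conv_lhs => rw [h4]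
      rw [classInner_sum_smul_sum_smul, Nat.cast_sum]
      refine Finset.sum_congr rfl fun χ _ => ?_
      rw [Complex.conj_natCast]
      push_cast
      ring
    rw [← h3, classInner_def, ← mul_assoc, mul_inv_cancel₀ hn0, one_mul,
      ← Finset.add_sum_erase _ _ (Finset.mem_univ (1 : S))]
    have h5 : ∑ t ∈ Finset.univ.erase (1 : S), D t * conj (D t) = (Nat.card S : ℂ) - 1 := by
      rw [Finset.sum_congr rfl fun t ht => h t (Finset.mem_erase.1 ht).1, Finset.sum_const,
        nsmul_eq_mul, mul_one, Finset.card_erase_of_mem (Finset.mem_univ _), Finset.card_univ,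
        ← Nat.card_eq_fintype_card, Nat.cast_sub (by omega), Nat.cast_one]
    rw [h5, hD1, Complex.conj_natCast]
    ring
  have hZ : (Fintype.card (IrrCharacter S) : ℤ) * ∑ χ, (c χ : ℤ) ^ 2 - (∑ χ, (c χ : ℤ)) ^ 2 =
      Fintype.card (IrrCharacter S) - 1 := by
    rw [hcard]
    rw [hD1] at hnorm
    have h6 : (((Nat.card S : ℤ) * ∑ χ, (c χ : ℤ) ^ 2 : ℤ) : ℂ) =
        (((∑ χ, (c χ : ℤ)) ^ 2 + (Nat.card S - 1) : ℤ) : ℂ) := by
      push_cast
      push_cast at hnorm
      exact hnorm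
    have h7 : (Nat.card S : ℤ) * ∑ χ, (c χ : ℤ) ^ 2 = (∑ χ, (c χ : ℤ)) ^ 2 + (Nat.card S - 1) := by
      exact_mod_cast h6
    linarith
  obtain ⟨m, ε, μ, hε, hm⟩ := comb (fun χ => (c χ : ℤ)) (by rw [hcard]; exact h2) hZ
  -- `m` is not negative
  have hm0 : 0 ≤ m := by
    obtain ⟨ν, hν⟩ : ∃ ν : IrrCharacter S, ν ≠ μ := by
      have : Nontrivial (IrrCharacter S) := Fintype.one_lt_card_iff_nontrivial.1 (by
        rw [hcard]; omega)
      exact exists_ne μ
    have := hm ν
    rw [if_neg hν, add_zero] at this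
    rw [← this]
    exact Int.natCast_nonneg _
  obtain ⟨k, rfl⟩ := Int.eq_ofNat_of_zero_le hm0
  have hDt : ∀ t, D t = (k : ℂ) * (∑ χ : IrrCharacter S, (χ : S → ℂ) t) + (ε : ℂ) * (μ : S → ℂ) t := by
    intro t
    have h8 : D t = ∑ χ : IrrCharacter S, (c χ : ℂ) * (χ : S → ℂ) t := by
      conv_lhs => rw [hc]
      rw [Finset.sum_apply]
      refine Finset.sum_congr rfl fun χ _ => ?_
      rw [Pi.smul_apply, nsmul_eq_mul]
    have h9 : ∀ χ : IrrCharacter S, (c χ : ℂ) = (k : ℂ) + if χ = μ then (ε : ℂ) else 0 := by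
      intro χ
      have h10 := hm χ
      have h11 : (((c χ : ℤ) : ℤ) : ℂ) = (((k : ℤ) + if χ = μ then ε else 0 : ℤ) : ℂ) := by
        rw [h10]
      push_cast at h11
      exact h11
    rw [h8, Finset.mul_sum]
    have h12 : (ε : ℂ) * (μ : S → ℂ) t = ∑ χ : IrrCharacter S,
        (if χ = μ then (ε : ℂ) else 0) * (χ : S → ℂ) t := by
      simp only [ite_mul, zero_mul, Finset.sum_ite_eq', Finset.mem_univ, if_true]
    rw [h12, ← Finset.sum_add_distrib]
    refine Finset.sum_congr rfl fun χ _ => ?_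
    rw [h9]
    ring
  refine ⟨k, ε, μ, hε, hlin μ, fun t ht => ?_, ?_⟩
  · rw [hDt, sum_irr hab, if_neg ht, mul_zero, zero_add]
  · rw [hDt, sum_irr hab, if_pos rfl, hlin, mul_one, mul_comm]

end Cfsg.Agent.H595.CycForm
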