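import Cfsg.Agent.H595.CycForm
import Cfsg.Agent.H594.CyclicMain
import Cfsg.Agent.J3Type.CharTools
import Cfsg.Agent.S0189

/-!
# Coprime fixed-point-free-like cyclic action: restriction of the canonical extension

* `core_x` : for `x ∈ S` with `C_G(x) = C` the values `χ̂ (c x)` are `± β_x (c)`;
* `zero_iff` : a character of a cyclic group with values `0, ±1` off the identity vanishes
  everywhere or nowhere off the identity.
-/

set_option autoImplicit false
set_option linter.unusedSectionVars false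

namespace Cfsg.Agent.H595.CycFpf

open Cfsg
open scoped ComplexConjugate
open Cfsg.Agent.Characters.Core Cfsg.Agent.CharactersDeep.CosetAverage
open Cfsg.Agent.H594 Cfsg.Agent.H594.Cyclic

/-- **The values on the coset of one element.** -/
theorem core_x {Γ : Type*} [Group Γ] [Fintype Γ] (G S : Subgroup Γ) [Fintype G] [G.Normal]
    (hcop : (Nat.card G).Coprime (Nat.card S)) (hidx : G.index = Nat.card S) (C : Subgroup Γ)
    [Fintype C] (hC : C = G ⊓ Subgroup.centralizer (S : Set Γ)) {χh : Γ → ℂ}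
    (hχh : IsIrrCharacter Γ χh) (hres : IsIrrCharacter G (fun g : G => χh g))
    (hdet : (detOrder χh).Coprime (Nat.card S)) {s : Γ} (hsS : s ∈ S)
    (hCs : G ⊓ Subgroup.centralizer ({s} : Set Γ) = C) :
    ∃ (β : IrrCharacter C) (ε : ℤ), (ε = 1 ∨ ε = -1) ∧
      ∀ c : C, χh ((c : Γ) * s) = (ε : ℂ) * (β : C → ℂ) c := by
  classical
  have hCG : C ≤ G := hC ▸ inf_le_left
  have hCS : ∀ c ∈ C, ∀ t ∈ S, c * t = t * c := by
    intro c hc t ht
    rw [hC] at hc
    exact (Subgroup.mem_centralizer_iff.1 hc.2 t ht).symm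
  have hcardΓ : Nat.card Γ = Nat.card G * Nat.card S := by rw [← hidx, Subgroup.card_mul_index]
  have hcfχ := isIrr_isClassFunction hχh
  have hpow : ∀ m : ℕ, m.Coprime (Nat.card S) → ∀ c ∈ C, ∀ t ∈ S, χh (c * t ^ m) = χh (c * t) := by
    intro m hm c hc t ht
    obtain ⟨k, hk1, hkm⟩ : ∃ k : ℕ, k ≡ 1 [MOD Nat.card G] ∧ k ≡ m [MOD Nat.card S] :=
      ⟨_, (Nat.chineseRemainder hcop 1 m).2⟩
    have hkc : k.Coprime (Nat.card Γ) := by
      rw [hcardΓ]
      apply Nat.Coprime.mul_right
      · show Nat.gcd k (Nat.card G) = 1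
        rw [hk1.gcd_eq, Nat.gcd_one_left]
      · show Nat.gcd k (Nat.card S) = 1
        rw [hkm.gcd_eq]
        exact hm
    have h1 := canonical_pow G hχh hres (by rw [hidx]; exact hcop) (by rw [hidx]; exact hdet) hkc
      hk1 (c * t)
    rw [← h1]
    congr 1
    rw [(show Commute c t from hCS c hc t ht).mul_pow]
    have h2 : c ^ k = c := by
      have h4 : k ≡ 1 [MOD orderOf c] := by
        refine hk1.of_dvd ?_
        have := orderOf_dvd_natCard (⟨c, hCG hc⟩ : G)
        rwa [Subgroup.orderOf_mk] at this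
      rw [← pow_mod_orderOf, h4, pow_mod_orderOf, pow_one]
    have h3 : t ^ k = t ^ m := by
      have h4 : k ≡ m [MOD orderOf t] := by
        refine hkm.of_dvd ?_
        have := orderOf_dvd_natCard (⟨t, ht⟩ : S)
        rwa [Subgroup.orderOf_mk] at this
      rw [← pow_mod_orderOf, h4, pow_mod_orderOf]
    rw [h2, h3]
  let φ : C × S →* Γ := MonoidHom.noncommCoprod C.subtype S.subtype (fun c t => hCS c c.2 t t.2)
  have hX : IsCharacter (C × S) (χh ∘ φ) := isCharacter_comp φ (isIrr_isCharacter hχh)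
  set b : C → ℂ := fun c => χh ((c : Γ) * s) with hb
  have hbc : IsClassFunction C b := by
    intro c d
    show χh (((d * c * d⁻¹ : C) : Γ) * s) = χh (c * s)
    have h1 : ((d * c * d⁻¹ : C) : Γ) * s = d * (c * s) * (d : Γ)⁻¹ := by
      have h2 := hCS _ (C.inv_mem d.2) s hsS
      push_cast
      calc (d : Γ) * c * (d : Γ)⁻¹ * s = d * c * ((d : Γ)⁻¹ * s) := by group
        _ = _ := by rw [h2]; group
    rw [h1]
    exact hcfχ _ _
  have hint : ∀ ψ : IrrCharacter C, ∃ k : ℤ, classInner b (ψ : C → ℂ) = k := by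
    intro ψ
    have hf := isCharacter_partial hX (isIrr_isCharacter ψ.2)
    have h1 : ∃ k : ℤ, (fun t => classInner (fun c => (χh ∘ φ) (c, t)) (ψ : C → ℂ))
        (⟨s, hsS⟩ : S) = k := by
      apply Cfsg.Agent.Characters.GaloisBasic.exists_int_of_rat hf
      rw [Cfsg.Agent.Characters.GaloisBasic.exists_rat_iff hf]
      intro m hm
      show classInner _ _ = classInner _ _
      congr 1
      funext c
      exact hpow m hm c c.2 s hsS
    exact h1
  have hbg : IsGeneralizedCharacter C b := by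
    have := finite_irr (G := C)
    have := Fintype.ofFinite (IrrCharacter C)
    rw [isGeneralizedCharacter_iff]
    choose k hk using hint
    refine ⟨k, ?_⟩
    conv_lhs => rw [classFunction_eq_sum hbc]
    refine Finset.sum_congr rfl fun ψ _ => ?_
    rw [hk, Int.cast_smul_eq_zsmul]
  have hcop' : (Nat.card G).Coprime (Nat.card (Subgroup.zpowers s)) :=
    Nat.Coprime.coprime_dvd_right (Subgroup.card_dvd_of_le ((Subgroup.zpowers_le).2 hsS)) hcop
  have hC' : C = G ⊓ Subgroup.centralizer ((Subgroup.zpowers s : Subgroup Γ) : Set Γ) := by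
    apply le_antisymm
    · intro c hc
      refine Subgroup.mem_inf.2 ⟨hCG hc, ?_⟩
      rw [Subgroup.mem_centralizer_iff]
      rintro _ ⟨j, rfl⟩
      exact (hCS c hc _ (S.zpow_mem hsS j)).symm
    · rw [← hCs]
      refine inf_le_inf le_rfl (Subgroup.centralizer_le ?_)
      intro y hy
      rw [Set.mem_singleton_iff.1 hy]
      exact Subgroup.mem_zpowers s
  have hnorm1 : classInner b b = 1 := by
    have h1 := CosetSum.coset_sum (G := G) (S := Subgroup.zpowers s) (C := C)
      (fun t _ g hg => ‹G.Normal›.conj_mem g hg t) hcop' hC' rfl (fun x => χh x * conj (χh x)) (by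
        intro x _ y
        simp only [hcfχ y x])
    rw [cosetAverage_self G χh hχh hres s] at h1
    exact h1.symm
  rcases isIrr_of_generalized hbg hnorm1 with h | h
  · exact ⟨⟨b, h⟩, 1, Or.inl rfl, fun c => by simp [hb]⟩
  · exact ⟨⟨-b, h⟩, -1, Or.inr rfl, fun c => by simp [hb]⟩

/-- A character with values `0, ±1` off the identity on the powers of `s`. -/
theorem zero_iff {S : Type*} [Group S] [Finite S] {D : S → ℂ} (hD : IsCharacter S D)
    (h : ∀ x, x ≠ 1 → D x = ((0 : ℤ) : ℂ) ∨ D x = ((1 : ℤ) : ℂ) ∨ D x = ((-1 : ℤ) : ℂ)) (s : S) :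
    ∀ k : ℕ, s ^ k ≠ 1 → (D (s ^ k) = 0 ↔ D s = 0) := by
  intro k
  induction k using Nat.strong_induction_on with
  | _ k ih =>
  intro hk
  have hk0 : k ≠ 0 := by
    rintro rfl
    exact hk (pow_zero s)
  by_cases hk1 : k = 1
  · rw [hk1, pow_one]
  · have hp := Nat.minFac_prime hk1
    obtain ⟨j, hj⟩ := Nat.minFac_dvd k
    set p := k.minFac with hpdef
    have hj0 : j ≠ 0 := by
      rintro rfl
      exact hk0 (by rw [hj, mul_zero])
    have hjk : j < k := by
      rw [hj]
      have := hp.two_le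
      nlinarith [Nat.pos_of_ne_zero hj0]
    have hpow : s ^ k = (s ^ j) ^ p := by rw [← pow_mul, mul_comm j p, ← hj]
    have hsj : s ^ j ≠ 1 := by
      intro h1
      exact hk (by rw [hpow, h1, one_pow])
    rw [← ih j hjk hsj, hpow]
    have hsk : (s ^ j) ^ p ≠ 1 := by rw [← hpow]; exact hk
    have hpn : ¬ (p : ℤ) ∣ 1 := by
      intro h1
      exact hp.one_lt.ne' (by exact_mod_cast Int.eq_one_of_dvd_one (Int.natCast_nonneg p) h1)
    have key := fun a b => Cfsg.Agent.J3Type.CharTools.int_congr hD (s ^ j) hp (a := a) (b := b)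
    rcases h _ hsj with ha | ha | ha <;> rcases h _ hsk with hb | hb | hb
    · simp [ha, hb]
    · exact absurd (by simpa using key _ _ ha hb) hpn
    · exact absurd (by simpa using key _ _ ha hb) hpn
    · exact absurd (by simpa using key _ _ ha hb) hpn
    · simp [ha, hb]
    · simp [ha, hb]
    · exact absurd (by simpa using key _ _ ha hb) hpn
    · simp [ha, hb]
    · simp [ha, hb]

end Cfsg.Agent.H595.CycFpf
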