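import Mathlib

/-!
# Fixed points of a normal subgroup, and the action of the quotient on them

`S` acts on the group `G` (`MulDistribMulAction S G`), `T` is a subgroup of `S`; `fx T G` is the
subgroup of the fixed points of `T`; if `T` is normal, `S ⧸ T` acts on it.
-/

set_option autoImplicit false

namespace Cfsg.Agent.H595.Fix

universe u v w

/-- The subgroup of the fixed points. -/
def fx (S : Type*) [Group S] (G : Type*) [Group G] [MulDistribMulAction S G] : Subgroup G where
  carrier := {g | ∀ s : S, s • g = g}
  mul_mem' {a b} ha hb s := by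
    rw [smul_mul', ha s, hb s]
  one_mem' s := smul_one s
  inv_mem' {a} ha s := by
    rw [smul_inv', ha s]

theorem mem_fx {S : Type*} [Group S] {G : Type*} [Group G] [MulDistribMulAction S G] {g : G} :
    g ∈ fx S G ↔ ∀ s : S, s • g = g := Iff.rfl

section Quot

variable {S : Type v} [Group S] (T : Subgroup S) [hT : T.Normal] (G : Type u) [Group G]
  [MulDistribMulAction S G]

theorem smul_mem_fx (s : S) {g : G} (hg : g ∈ fx T G) : s • g ∈ fx T G := by
  intro t
  have h1 : s⁻¹ * (t : S) * s ∈ T := by
    have := hT.conj_mem (t : S) t.2 s⁻¹
    rwa [inv_inv] at this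
  have h2 : (⟨s⁻¹ * (t : S) * s, h1⟩ : T) • g = g := hg _
  have h3 : (s⁻¹ * (t : S) * s) • g = g := h2
  show (t : S) • s • g = s • g
  calc (t : S) • s • g = s • (s⁻¹ * (t : S) * s) • g := by
        rw [smul_smul, smul_smul]
        congr 1
        group
    _ = s • g := by rw [h3]

theorem smul_eq_of_mem (t : S) (ht : t ∈ T) {g : G} (hg : g ∈ fx T G) : t • g = g := hg ⟨t, ht⟩

/-- The action of `S ⧸ T` on the fixed points of `T`. -/
@[instance_reducible]
noncomputable def quotAct : MulDistribMulAction (S ⧸ T) (fx T G) where
  smul q d := Quotient.liftOn' q (fun s : S => (⟨s • (d : G), smul_mem_fx T G s d.2⟩ : fx T G))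
    (by
      intro a b hab
      have h1 : a⁻¹ * b ∈ T := QuotientGroup.leftRel_apply.1 hab
      refine Subtype.ext ?_
      show a • (d : G) = b • (d : G)
      have h2 := smul_eq_of_mem T G _ h1 d.2
      calc a • (d : G) = a • (a⁻¹ * b) • (d : G) := by rw [h2]
        _ = b • (d : G) := by rw [smul_smul, mul_inv_cancel_left])
  one_smul d := Subtype.ext (one_smul S (d : G))
  mul_smul q r d := by
    induction q using QuotientGroup.induction_on with
    | H a =>
      induction r using QuotientGroup.induction_on with
      | H b => exact Subtype.ext (mul_smul a b (d : G))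
  smul_mul q d e := by
    induction q using QuotientGroup.induction_on with
    | H a => exact Subtype.ext (smul_mul' a (d : G) (e : G))
  smul_one q := by
    induction q using QuotientGroup.induction_on with
    | H a => exact Subtype.ext (smul_one a)

theorem quotAct_smul (s : S) (d : fx T G) :
    letI := quotAct T G
    ((((s : S ⧸ T)) • d : fx T G) : G) = s • (d : G) := rfl

end Quot

end Cfsg.Agent.H595.Fix
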